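import Cfsg.Agent.Lib.MaxCl.SLThree.C6.Std
import Cfsg.Agent.Lib.SmallDegree.RelativeTrace
import Cfsg.Agent.Lib.SmallDegree.AdjointThree
import Cfsg.Agent.Lib.SmallDegree.ConicCount
import Mathlib.GroupTheory.SchurZassenhaus

/-!
# Without transvections the order is prime to the characteristic

Otherwise an element of order `p` is regular unipotent, and the adjoint module has an invariant subspace of
dimension three; but the standard generators leave only subspaces of dimension zero and eight in `sl 3`.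
-/

set_option autoImplicit false
set_option linter.style.haveILetI false
set_option linter.unusedSectionVars false

namespace Cfsg.Agent.MaxCl.SLThree.C6

open Matrix SmallDegree
open scoped Pointwise

universe u

variable {F : Type u} [Field F] [Finite F] {ω : F} {hω : IsPrimitiveRoot ω 3} {H : Subgroup (GL (Fin 3) F)}
  {p : ℕ}

theorem four_le_finrank {K : Type*} [Field K] {ζ : K} (hζ : IsPrimitiveRoot ζ 3)
    {W : Submodule K (Matrix (Fin 3) (Fin 3) K)} (h1 : X ζ ∈ W) (h2 : X ζ * X ζ ∈ W) (h3 : Y K ∈ W)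
    (h4 : Y K * Y K ∈ W) : 4 ≤ Module.finrank K W := by
  let f : (Fin 4 → K) →ₗ[K] Matrix (Fin 3) (Fin 3) K :=
    Fintype.linearCombination K ![X ζ, X ζ * X ζ, Y K, Y K * Y K]
  have hfinj : Function.Injective f := by
    refine (injective_iff_map_eq_zero f).2 fun c hc => ?_
    have a := congrFun (congrFun hc 0) 0
    have b := congrFun (congrFun hc 1) 1
    have c1 := congrFun (congrFun hc 1) 0
    have c2 := congrFun (congrFun hc 2) 0
    simp [f, Fintype.linearCombination_apply, Fin.sum_univ_four, X, Y] at a b c1 c2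
    have h0 : c 0 * (ζ - ζ ^ 2) = 0 := by linear_combination b - ζ ^ 2 * a
    have ha : c 0 = 0 := (mul_eq_zero.1 h0).resolve_right (sub_sq_ne hζ)
    have hb : c 1 = 0 := by linear_combination a - ha
    funext i
    fin_cases i <;> simp [ha, hb, c1, c2]
  have hle : LinearMap.range f ≤ W := by
    rintro _ ⟨c, rfl⟩
    rw [Fintype.linearCombination_apply]
    refine Submodule.sum_mem _ fun i _ => Submodule.smul_mem _ _ ?_
    fin_cases i <;> assumption
  have h := Submodule.finrank_mono hle
  rwa [LinearMap.finrank_range_of_inj hfinj, Module.finrank_fintype_fun_eq_card, Fintype.card_fin] at h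

theorem Setup.not_dvd_card (h : Setup hω H p) : ¬ p ∣ Nat.card H := by
  classical
  intro hdvd
  haveI : Fact p.Prime := ⟨h.prime⟩
  haveI := h.charP
  haveI : CharP (AlgebraicClosure F) p :=
    charP_of_injective_algebraMap (algebraMap F (AlgebraicClosure F)).injective p
  have h5 := h.five
  have hsq := h.sq
  obtain ⟨x, hxo⟩ := exists_prime_orderOf_dvd_card' p hdvd
  set P := Subgroup.zpowers x with hPdef
  have hP : Nat.card P = p := by rw [hPdef, Nat.card_zpowers, hxo]
  have hxP : x ∈ P := Subgroup.mem_zpowers x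
  have hxp : x ^ p = 1 := hxo ▸ pow_orderOf_eq_one x
  let K := AlgebraicClosure F
  let em : F →+* K := algebraMap F K
  let mK : H →* Matrix (Fin 3) (Fin 3) K :=
    em.mapMatrix.toMonoidHom.comp ((Units.coeHom _).comp H.subtype)
  have hmK : ∀ g : H, mK g = ((g : GL (Fin 3) F) : Matrix (Fin 3) (Fin 3) F).map em := fun _ => rfl
  let θ : H →* Module.End K (Fin 3 → K) := (Matrix.toLinAlgEquiv' (R := K)).toMonoidHom.comp mK
  have hθ : ∀ g, θ g = Matrix.toLinAlgEquiv' (mK g) := fun _ => rfl
  haveI : CharP (Module.End K (Fin 3 → K)) p := charP_of_injective_algebraMap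
    (FaithfulSMul.algebraMap_injective K (Module.End K (Fin 3 → K))) p
  have hnil : IsNilpotent (θ x - 1) := ⟨p, by
    rw [sub_pow_char_of_commute p (Commute.one_right _), ← map_pow, hxp, map_one, one_pow, sub_self]⟩
  have hpow : (θ x - 1) ^ (2 + 1) = 0 := by
    have h1 := LinearMap.aeval_self_charpoly (θ x - 1)
    rw [IsNilpotent.charpoly_eq_X_pow_finrank hnil, Module.finrank_fintype_fun_eq_card, Fintype.card_fin] at h1
    simpa using h1
  have hne : (θ x - 1) ^ 2 ≠ 0 := by
    intro h0
    have h1 : (mK x - 1) ^ 2 = 0 := by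
      refine (Matrix.toLinAlgEquiv' (R := K) (n := Fin 3)).injective ?_
      rw [map_pow, map_sub, map_one, map_zero, ← hθ, h0]
    have h2 : (((x : GL (Fin 3) F) : Matrix (Fin 3) (Fin 3) F) - 1) ^ 2 = 0 := by
      refine Matrix.map_injective em.injective ?_
      show em.mapMatrix ((((x : GL (Fin 3) F) : Matrix (Fin 3) (Fin 3) F) - 1) ^ 2) = em.mapMatrix 0
      rw [map_pow, map_sub, map_one, map_zero]
      exact h1
    have h3 : x = 1 := Subtype.ext (h.noTv x x.2 h2)
    rw [h3, orderOf_one] at hxo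
    omega
  -- the normaliser and a complement
  set N := Subgroup.normalizer (P : Set H) with hNdef
  have hPN : P ≤ N := Subgroup.le_normalizer
  haveI : (P.subgroupOf N).Normal := Subgroup.normal_in_normalizer
  have hcardPN : Nat.card (P.subgroupOf N) = p := by
    rw [Nat.card_congr (Subgroup.subgroupOfEquivOfLe hPN).toEquiv, hP]
  have hidx : ¬ p ∣ (P.subgroupOf N).index := fun hd => hsq (by
    have h1 := Subgroup.card_mul_index (P.subgroupOf N)
    rw [hcardPN] at h1
    refine dvd_trans ?_ (Subgroup.card_subgroup_dvd_card N)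
    rw [← h1, pow_two]
    exact Nat.mul_dvd_mul_left p hd)
  obtain ⟨H0, hH0⟩ := Subgroup.exists_right_complement'_of_coprime (N := P.subgroupOf N)
    (by rw [hcardPN]; exact h.prime.coprime_iff_not_dvd.2 hidx)
  set Hc := H0.map N.subtype
  have hHcard : (Nat.card Hc : K) ≠ 0 := by
    rw [Subgroup.card_map_of_injective N.subtype_injective]
    intro h0
    apply hidx
    rw [hH0.symm.index_eq_card]
    exact (CharP.cast_eq_zero_iff K p _).1 h0
  have hpw : ∀ u ∈ P, ∃ a : ℕ, u = x ^ a := fun u hu => by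
    obtain ⟨a, ha⟩ := mem_powers_iff_mem_zpowers.2 (show u ∈ Subgroup.zpowers x from hu)
    exact ⟨a, ha.symm⟩
  have hnorm : ∀ g ∈ Hc, ∃ a : ℕ, g * x * g⁻¹ = x ^ a := by
    rintro _ ⟨g, -, rfl⟩
    exact hpw _ ((Subgroup.mem_normalizer_iff.1 g.2 x).1 hxP)
  obtain ⟨π, hidem, hπH, hπx, hself, hπ1, hrank, -, -⟩ :=
    exists_projection θ hxp Hc hHcard hnorm (n := 2) one_le_two (by omega) hpow hne
      (by rw [Module.finrank_fintype_fun_eq_card, Fintype.card_fin]; omega)
  set Θ := adAct θ
  have hπN : ∀ g ∈ N, Θ g * π = π * Θ g := by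
    intro g hg
    obtain ⟨⟨⟨u, hu⟩, ⟨g', hg'⟩⟩, hval⟩ := (Subgroup.isComplement'_def.1 hH0).2 (⟨g, hg⟩ : N)
    have e : g = (u : H) * (g' : H) := (congrArg Subtype.val hval).symm
    obtain ⟨a, ha⟩ := hpw _ (Subgroup.mem_subgroupOf.1 hu)
    rw [e, ha, map_mul, map_pow, mul_assoc, hπH (g' : H) (Subgroup.mem_map_of_mem _ hg'), ← mul_assoc,
      (Commute.pow_left hπx a).eq, mul_assoc]
  have hfree : ∀ g, g ∉ N → ∀ u ∈ P, g⁻¹ * u * g ∈ N → u = 1 := by
    intro g hg u hu hmem
    by_contra hu1
    have hup : u ^ p = 1 := by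
      have := pow_card_eq_one' (x := (⟨u, hu⟩ : P))
      rw [hP] at this
      exact congrArg Subtype.val this
    have hy : g⁻¹ * u * g ∈ P := mem_of_pow_prime_eq_one hP hsq hmem (by
      rw [show g⁻¹ * u * g = g⁻¹ * u * g⁻¹⁻¹ by rw [inv_inv], conj_pow, hup]; group)
    have hzu : Subgroup.zpowers u = P := Subgroup.eq_of_le_of_card_ge (Subgroup.zpowers_le.2 hu)
      (by rw [hP, Nat.card_zpowers, orderOf_eq_prime hup hu1])
    have hgi : g⁻¹ ∈ N := by
      rw [hNdef, Subgroup.mem_normalizer_iff_map_conj_eq]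
      conv_lhs => rw [← hzu, MonoidHom.map_zpowers]
      refine Subgroup.eq_of_le_of_card_ge (Subgroup.zpowers_le.2 ?_) (le_of_eq ?_)
      · show g⁻¹ * u * g⁻¹⁻¹ ∈ P
        rwa [inv_inv]
      · rw [hP, Nat.card_zpowers]
        exact ((orderOf_injective (MulAut.conj g⁻¹).toMonoidHom (MulAut.conj g⁻¹).injective u).trans
          (orderOf_eq_prime hup hu1)).symm
    exact hg (by simpa using inv_mem hgi)
  have hd : (Θ x - 1) ^ (p - 1) = 0 := pow_eq_zero_of_le (by omega) (adAct_sub_one_pow θ hpow)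
  obtain ⟨m, W, hWdef, hWinv, -, e, -⟩ := exists_stable_image Θ hPN π hπN hP rfl hfree hd hidem
  have hW3 : Module.finrank K W = 3 := e.finrank_eq.symm.trans hrank
  set T := relTr Θ N π
  set tr := LinearMap.trace K (Fin 3 → K)
  have hTself : ∀ (i : ℕ) Y Z, tr ((T ^ i : Module.End K (Module.End K (Fin 3 → K))) Y * Z) =
      tr (Y * (T ^ i : Module.End K (Module.End K (Fin 3 → K))) Z) := by
    intro i
    induction i with
    | zero => intro Y Z; rfl
    | succ i ih =>
      intro Y Z
      rw [pow_succ, Module.End.mul_apply, ih,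
        show (T ^ i * T : Module.End K (Module.End K (Fin 3 → K))) = T * T ^ i from (Commute.self_pow T i).symm.eq,
        Module.End.mul_apply]
      set Z' := (T ^ i : Module.End K (Module.End K (Fin 3 → K))) Z
      simp only [T, relTr, LinearMap.sum_apply, Module.End.mul_apply, Finset.sum_mul, Finset.mul_sum, map_sum]
      refine Finset.sum_congr rfl fun q _ => ?_
      rw [trace_adAct, hself, trace_adAct, inv_inv]
  have hm0 : 0 < m := by
    by_contra hm
    obtain rfl : m = 0 := by omega
    rw [pow_zero, Module.End.one_eq_id, LinearMap.range_id] at hWdef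
    have h9 : Module.finrank K (Module.End K (Fin 3 → K)) = 3 := by
      rw [← finrank_top K (Module.End K (Fin 3 → K)), ← hWdef, hW3]
    rw [Module.finrank_linearMap, Module.finrank_fintype_fun_eq_card, Fintype.card_fin] at h9
    omega
  have hT1 : (T ^ m : Module.End K (Module.End K (Fin 3 → K))) 1 = 0 := by
    have h1 : T 1 = 0 := by
      simp only [T, relTr, LinearMap.sum_apply, Module.End.mul_apply]
      refine Finset.sum_eq_zero fun q _ => ?_
      have : Θ q.out⁻¹ 1 = (1 : Module.End K (Fin 3 → K)) := by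
        rw [adAct_apply, mul_one, inv_inv, ← map_mul, inv_mul_cancel, map_one]
      rw [this, hπ1, map_zero]
    obtain ⟨j, rfl⟩ := Nat.exists_eq_add_one_of_ne_zero hm0.ne'
    rw [pow_succ, Module.End.mul_apply, h1, map_zero]
  have htr : ∀ Y ∈ W, tr Y = 0 := by
    rintro Y hY
    rw [hWdef] at hY
    obtain ⟨Z, rfl⟩ := hY
    have := hTself m Z 1
    rwa [mul_one, hT1, mul_zero, map_zero] at this
  -- in matrix form
  let eM := (Matrix.toLinAlgEquiv' (R := K) (n := Fin 3))
  let W' : Submodule K (Matrix (Fin 3) (Fin 3) K) := W.comap eM.toLinearMap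
  have hmem : ∀ M, M ∈ W' ↔ eM M ∈ W := fun _ => Iff.rfl
  have hinv : ∀ (g : H) (M : Matrix (Fin 3) (Fin 3) K), M ∈ W' → mK g * M * mK g⁻¹ ∈ W' := by
    intro g M hM
    rw [hmem, map_mul, map_mul]
    have := hWinv g _ hM
    rwa [adAct_apply] at this
  have hω' : IsPrimitiveRoot (em ω) 3 := hω.map_of_injective em.injective
  have eX : (X ω).map em = X (em ω) := by
    ext i j; fin_cases i <;> fin_cases j <;> simp [X]
  have eY : (Y F).map em = Y K := by
    ext i j; fin_cases i <;> fin_cases j <;> simp [Y]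
  have eA : (A ω).map em = A (em ω) := by
    ext i j; fin_cases i <;> fin_cases j <;> simp [A]
  have eB : (B ω).map em = B (em ω) := by
    ext i j; fin_cases i <;> fin_cases j <;> simp [B]
  have iX : ∀ M ∈ W', X (em ω) * M * (X (em ω) * X (em ω)) ∈ W' := fun M hM => by
    rw [← eX]; simpa [hmK, gX] using hinv ⟨_, h.mX⟩ M hM
  have iY : ∀ M ∈ W', Y K * M * (Y K * Y K) ∈ W' := fun M hM => by
    rw [← eY]; simpa [hmK, gY] using hinv ⟨_, h.mY⟩ M hM
  have iA : ∀ M ∈ W', A (em ω) * M * (A (em ω) * A (em ω) * A (em ω)) ∈ W' := fun M hM => by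
    rw [← eA]; simpa [hmK, gA] using hinv ⟨_, h.mA⟩ M hM
  have iB : ∀ M ∈ W', B (em ω) * M * (B (em ω) * B (em ω) * B (em ω)) ∈ W' := fun M hM => by
    rw [← eB]; simpa [hmK, gB] using hinv ⟨_, h.mB⟩ M hM
  obtain ⟨Z, hZ, hZ0⟩ := Submodule.exists_mem_ne_zero_of_ne_bot (show W ≠ ⊥ from fun hb => by
    rw [hb, finrank_bot] at hW3; omega)
  obtain ⟨M, rfl⟩ := eM.surjective Z
  have htrM : M.trace = 0 := by
    rw [← htr _ hZ]
    exact (Matrix.trace_toLin'_eq M).symm
  obtain ⟨h1, h2, h3, h4⟩ := gens_mem hω' iX iY iA iB hZ (fun h0 => hZ0 (by rw [h0, map_zero])) htrM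
  have h4' := four_le_finrank hω' h1 h2 h3 h4
  have hW' : Module.finrank K W' ≤ 3 := by
    refine le_trans ?_ hW3.le
    refine LinearMap.finrank_le_finrank_of_injective
      (f := (eM.toLinearMap.restrict (p := W') (q := W) fun M hM => hM)) ?_
    intro a b hab
    exact Subtype.ext (eM.injective (congrArg Subtype.val hab))
  omega

end Cfsg.Agent.MaxCl.SLThree.C6
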