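import Cfsg.Agent.Lib.MaxCl.SLThree.C6.TwoPart
import Cfsg.Agent.Lib.ZStar.Main
import Cfsg.Agent.Lib.SolvableTwo.Basic
import Cfsg.Agent.S0205

/-!
# A group without transvections normalises the standard group of order 27

Its quaternion subgroup is a Sylow two-subgroup, so the involution lies in `Z*` and the standard group in the odd
core; a minimal non-scalar normal subgroup inside the core coincides with it up to scalars.
-/

set_option autoImplicit false
set_option linter.style.haveILetI false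
set_option linter.unusedSectionVars false

namespace Cfsg.Agent.MaxCl.SLThree.C6

open Matrix

universe u

section Identities

variable {K : Type*} [Field K] {ω : K} (hω : IsPrimitiveRoot ω 3)
include hω

theorem A_XY : A ω * (X ω * Y K) = ω • (X ω * (Y K * Y K)) * A ω := by
  have h1 := sum_eq_zero hω
  ext a b
  fin_cases a <;> fin_cases b <;> simp [A, X, Y, Matrix.mul_apply, Fin.sum_univ_three] <;> grind

theorem A_XYY : A ω * (X ω * (Y K * Y K)) = ω ^ 2 • (X ω * X ω * (Y K * Y K)) * A ω := by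
  have h1 := sum_eq_zero hω
  ext a b
  fin_cases a <;> fin_cases b <;> simp [A, X, Y, Matrix.mul_apply, Fin.sum_univ_three] <;> grind

theorem XYY_mul_XY : ω • (X ω * (Y K * Y K)) * (X ω * Y K) = ω ^ 2 • (X ω * X ω) := by
  have h1 := sum_eq_zero hω
  ext a b
  fin_cases a <;> fin_cases b <;> simp [X, Y, Matrix.mul_apply, Fin.sum_univ_three] <;> grind

theorem XXYY_mul_XYY : ω ^ 2 • (X ω * X ω * (Y K * Y K)) * (X ω * (Y K * Y K)) = (1 : K) • Y K := by
  have h1 := sum_eq_zero hω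
  ext a b
  fin_cases a <;> fin_cases b <;> simp [X, Y, Matrix.mul_apply, Fin.sum_univ_three] <;> grind

theorem XXY_sq : X ω * X ω * Y K * (X ω * X ω * Y K) = ω ^ 4 • (X ω * (Y K * Y K)) := by
  have h1 := sum_eq_zero hω
  ext a b
  fin_cases a <;> fin_cases b <;> simp [X, Y, Matrix.mul_apply, Fin.sum_univ_three] <;> grind

theorem XXYY_sq : X ω * X ω * (Y K * Y K) * (X ω * X ω * (Y K * Y K)) = ω ^ 2 • (X ω * Y K) := by
  have h1 := sum_eq_zero hω
  ext a b
  fin_cases a <;> fin_cases b <;> simp [X, Y, Matrix.mul_apply, Fin.sum_univ_three] <;> grind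

end Identities

variable {F : Type u} [Field F] [Finite F] {ω : F} {hω : IsPrimitiveRoot ω 3} {H : Subgroup (GL (Fin 3) F)}
  {p : ℕ} (h : Setup hω H p)
include h

/-- The matrix of an element. -/
abbrev Setup.mat (g : H) : Matrix (Fin 3) (Fin 3) F :=
  have _ := h.prime
  ((g : GL (Fin 3) F) : Matrix (Fin 3) (Fin 3) F)

theorem Setup.mat_mul (g g' : H) : h.mat (g * g') = h.mat g * h.mat g' := rfl

theorem Setup.mat_ne_zero (g : H) : h.mat g ≠ 0 := fun e => by
  have := h.sl_det g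
  rw [show ((g : GL (Fin 3) F) : Matrix (Fin 3) (Fin 3) F) = 0 from e, Matrix.det_zero] at this
  exact zero_ne_one this

/-- The scalars inside `H`. -/
def Setup.Zc : Subgroup H :=
  have _ := h.prime
  (Cfsg.Geo.scalars (Fin 3) F).subgroupOf H

theorem Setup.Zc_normal : h.Zc.Normal := by
  unfold Setup.Zc; infer_instance

theorem Setup.mem_Zc {g : H} : g ∈ h.Zc ↔ ∃ k : F, h.mat g = k • 1 := by
  rw [Setup.Zc, Subgroup.mem_subgroupOf, Cfsg.Geo.mem_scalars_iff]
  refine ⟨fun ⟨k, hk⟩ => ⟨k, hk⟩, fun ⟨k, hk⟩ => ⟨Units.mk0 k ?_, hk⟩⟩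
  rintro rfl
  exact h.mat_ne_zero g (by rw [hk, zero_smul])

theorem Setup.x_not_scalar : h.x ∉ h.Zc := by
  rw [h.mem_Zc]
  rintro ⟨k, hk⟩
  have a := congrFun (congrFun hk 0) 0
  have b := congrFun (congrFun hk 1) 1
  simp [Setup.mat, Setup.x, X] at a b
  exact hω.ne_one (by norm_num) (by rw [b, ← a])

/-- Commuting up to a scalar with both generators. -/
theorem Setup.monomial {g : H} (h1 : h.x * g * h.x⁻¹ * g⁻¹ ∈ h.Zc) (h2 : h.y * g * h.y⁻¹ * g⁻¹ ∈ h.Zc) :
    ∃ (a b : Fin 3) (k : F), k ≠ 0 ∧ h.mat g = k • (X ω ^ (a : ℕ) * Y F ^ (b : ℕ)) := by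
  obtain ⟨c1, e1⟩ := h.mem_Zc.1 h1
  obtain ⟨c2, e2⟩ := h.mem_Zc.1 h2
  have key : ∀ (w : H) (c : F), h.mat (w * g * w⁻¹ * g⁻¹) = c • 1 → h.mat w * h.mat g = c • (h.mat g * h.mat w) := by
    intro w c e
    rw [← h.mat_mul, ← h.mat_mul, show w * g = w * g * w⁻¹ * g⁻¹ * (g * w) by group, h.mat_mul, e,
      smul_mul_assoc, one_mul]
  exact monomial_of_comm hω (h.mat_ne_zero g) (key _ _ e1) (key _ _ e2)

/-- Abelian normal subgroups are scalar. -/
theorem Setup.abelian_le {N : Subgroup H} [N.Normal] (hN : ∀ a ∈ N, ∀ b ∈ N, a * b = b * a) : N ≤ h.Zc := by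
  intro d hd
  by_contra hns
  obtain ⟨W, hW⟩ : ∃ W : Submodule F (Matrix (Fin 3) (Fin 3) F), W = Submodule.span F (h.mat '' N) := ⟨_, rfl⟩
  have hinv : ∀ w : H, ∀ M ∈ W, h.mat w * M * h.mat w⁻¹ ∈ W := by
    intro w M hM
    rw [hW] at hM ⊢
    induction hM using Submodule.span_induction with
    | mem M hM =>
      obtain ⟨a, ha, rfl⟩ := hM
      exact Submodule.subset_span ⟨w * a * w⁻¹, Subgroup.Normal.conj_mem inferInstance a ha w, rfl⟩
    | zero => simp
    | add M M' _ _ ih ih' => rw [mul_add, add_mul]; exact add_mem ih ih'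
    | smul c M _ ih => rw [mul_smul_comm, smul_mul_assoc]; exact Submodule.smul_mem _ _ ih
  have hcomm : ∀ M ∈ W, ∀ M' ∈ W, M * M' = M' * M := by
    intro M hM
    rw [hW] at hM ⊢
    induction hM using Submodule.span_induction with
    | mem M hM =>
      obtain ⟨a, ha, rfl⟩ := hM
      intro M' hM'
      induction hM' using Submodule.span_induction with
      | mem M' hM' =>
        obtain ⟨b, hb, rfl⟩ := hM'
        rw [← h.mat_mul, ← h.mat_mul, hN a ha b hb]
      | zero => simp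
      | add _ _ _ _ ih ih' => rw [mul_add, add_mul, ih, ih']
      | smul c _ _ ih => rw [mul_smul_comm, smul_mul_assoc, ih]
    | zero => simp
    | add _ _ _ _ ih ih' => intro M' hM'; rw [add_mul, mul_add, ih M' hM', ih' M' hM']
    | smul c _ _ ih => intro M' hM'; rw [smul_mul_assoc, mul_smul_comm, ih M' hM']
  obtain ⟨M, hMdef⟩ : ∃ M, M = (3 : F) • h.mat d - (h.mat d).trace • 1 := ⟨_, rfl⟩
  have hM : M ∈ W := by
    rw [hMdef, hW]
    refine sub_mem (Submodule.smul_mem _ _ (Submodule.subset_span ⟨d, hd, rfl⟩)) (Submodule.smul_mem _ _ ?_)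
    exact Submodule.subset_span ⟨1, N.one_mem, rfl⟩
  have h30 := three_ne_zero' hω
  have hM0 : M ≠ 0 := fun e => hns (h.mem_Zc.2 ⟨(h.mat d).trace / 3, by
    rw [hMdef, sub_eq_zero] at e
    rw [div_eq_inv_mul, ← smul_smul, ← e, inv_smul_smul₀ h30]⟩)
  have htr : M.trace = 0 := by
    rw [hMdef, Matrix.trace_sub, Matrix.trace_smul, Matrix.trace_smul, Matrix.trace_one, Fintype.card_fin]
    simp [mul_comm]
  obtain ⟨mX, -, mY, -⟩ := gens_mem hω
    (fun M hM => by simpa [Setup.mat, Setup.x, gX] using hinv h.x M hM)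
    (fun M hM => by simpa [Setup.mat, Setup.y, gY] using hinv h.y M hM)
    (fun M hM => by simpa [Setup.mat, Setup.a, gA] using hinv h.a M hM)
    (fun M hM => by simpa [Setup.mat, Setup.b, gB] using hinv h.b M hM) hM hM0 htr
  have e := hcomm _ mX _ mY
  have h0 : (ω - 1) • (Y F * X ω) = 0 := by rw [sub_smul, one_smul, ← X_Y hω, e, sub_self]
  refine (smul_eq_zero.1 h0).elim (fun e1 => hω.ne_one (by norm_num) (sub_eq_zero.1 e1)) fun e1 => ?_
  have := congrArg Matrix.det e1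
  rw [Matrix.det_mul, det_X hω, det_Y, one_mul, Matrix.det_zero] at this
  exact one_ne_zero this

/-- A normal subgroup with scalar commutators is the standard group up to scalars, or scalar. -/
theorem Setup.class_two {D : Subgroup H} [D.Normal] (hne : ¬ D ≤ h.Zc)
    (hcl : ∀ a ∈ D, ∀ b ∈ D, a * b * a⁻¹ * b⁻¹ ∈ h.Zc) :
    (∃ (d : H) (k : F), d ∈ D ∧ h.mat d = k • X ω) ∧ (∃ (d : H) (k : F), d ∈ D ∧ h.mat d = k • Y F) := by
  classical
  haveI := h.Zc_normal
  haveI : Fact (Nat.Prime 3) := ⟨Nat.prime_three⟩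
  -- cubes are scalar
  have hcube : ∀ d ∈ D, d ^ 3 ∈ h.Zc := by
    let C : Subgroup H := D ⊓ Subgroup.centralizer (D : Set H)
    intro d hd
    have hC : C ≤ h.Zc := h.abelian_le fun a ha b hb => (Subgroup.mem_centralizer_iff.1 ha.2 b hb.1).symm
    refine hC ⟨pow_mem hd 3, Subgroup.mem_centralizer_iff.2 fun w hw => ?_⟩
    obtain ⟨c, hc⟩ := h.mem_Zc.1 (hcl d hd w hw)
    have hc3 : c ^ 3 = 1 := by
      have := h.sl_det (d * w * d⁻¹ * w⁻¹)
      change (h.mat _).det = 1 at this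
      rw [hc, Matrix.det_smul, Matrix.det_one, mul_one, Fintype.card_fin] at this
      exact this
    have e1 : h.mat d * h.mat w = c • (h.mat w * h.mat d) := by
      rw [← h.mat_mul, ← h.mat_mul, show d * w = d * w * d⁻¹ * w⁻¹ * (w * d) by group, h.mat_mul, hc,
        smul_mul_assoc, one_mul]
    have e2 : h.mat (d ^ 3) * h.mat w = h.mat w * h.mat (d ^ 3) := by
      have hk : ∀ k : ℕ, h.mat (d ^ k) * h.mat w = c ^ k • (h.mat w * h.mat (d ^ k)) := by
        intro k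
        induction k with
        | zero => simp [Setup.mat]
        | succ k ih =>
          rw [pow_succ d, h.mat_mul, mul_assoc, e1, mul_smul_comm, ← mul_assoc, ih, smul_mul_assoc, smul_smul,
            mul_assoc, ← pow_succ']
      rw [hk, hc3, one_smul]
    exact Subtype.ext (Units.ext e2.symm)
  obtain ⟨d1, hd1, hd1s⟩ := SetLike.not_le_iff_exists.1 hne
  let π := QuotientGroup.mk' h.Zc
  have hπ : ∀ g : H, π g = 1 ↔ g ∈ h.Zc := fun g => QuotientGroup.eq_one_iff g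
  let Dq := D.map π
  haveI : Dq.Normal := Subgroup.Normal.map inferInstance π (QuotientGroup.mk'_surjective _)
  have h3D : 3 ∣ Nat.card Dq := by
    have ho : orderOf (⟨π d1, Subgroup.mem_map_of_mem π hd1⟩ : Dq) = 3 := orderOf_eq_prime
      (Subtype.ext (by rw [SubgroupClass.coe_pow, OneMemClass.coe_one, ← map_pow, hπ]; exact hcube d1 hd1))
      (fun e => hd1s ((hπ d1).1 (congrArg Subtype.val e)))
    have := orderOf_dvd_natCard (⟨π d1, Subgroup.mem_map_of_mem π hd1⟩ : Dq)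
    rwa [ho] at this
  let P : Subgroup (H ⧸ h.Zc) := Subgroup.closure {π h.x, π h.y}
  have hzc : π h.z = 1 := (hπ _).2 (h.mem_Zc.2 ⟨ω, h.coe_z⟩)
  have hxy : π h.x * π h.y = π h.y * π h.x := by
    have : h.x * h.y = h.z * (h.y * h.x) := by simp [Setup.z, mul_assoc]
    rw [← map_mul, this, map_mul, hzc, one_mul, map_mul]
  have hx3 : π h.x ^ 3 = 1 := by
    rw [← map_pow, show h.x ^ 3 = 1 from Subtype.ext (gX_cube hω), map_one]
  have hy3 : π h.y ^ 3 = 1 := by
    rw [← map_pow, show h.y ^ 3 = 1 from Subtype.ext gY_cube, map_one]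
  have hP : IsPGroup 3 P := by
    haveI : IsMulCommutative P := Subgroup.isMulCommutative_closure (by
      rintro a (rfl | rfl) b (rfl | rfl)
      exacts [rfl, hxy, hxy.symm, rfl])
    rintro ⟨w, hw⟩
    refine ⟨1, ?_⟩
    induction hw using Subgroup.closure_induction with
    | mem a ha =>
      refine Subtype.ext ?_
      rcases ha with rfl | rfl <;> simpa using ‹_›
    | one => exact one_pow _
    | mul a b ha hb iha ihb =>
      have : (⟨a * b, mul_mem ha hb⟩ : P) = ⟨a, ha⟩ * ⟨b, hb⟩ := rfl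
      rw [this, (show Commute (⟨a, ha⟩ : P) ⟨b, hb⟩ from IsMulCommutative.is_comm.comm _ _).mul_pow, iha, ihb,
        one_mul]
    | inv a ha iha =>
      have : (⟨a⁻¹, inv_mem ha⟩ : P) = ⟨a, ha⟩⁻¹ := rfl
      rw [this, inv_pow, iha, inv_one]
  letI : MulAction P Dq := MulAction.compHom Dq ((MulAut.conjNormal (H := Dq)).comp P.subtype)
  have hact : ∀ (w : P) (q : Dq), ((w • q : Dq) : H ⧸ h.Zc) = (w : H ⧸ h.Zc) * q * (w : H ⧸ h.Zc)⁻¹ :=
    fun w q => rfl
  have hmod : 3 ∣ Nat.card (MulAction.fixedPoints P Dq) :=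
    (Nat.ModEq.dvd_iff (hP.card_modEq_card_fixedPoints Dq) dvd_rfl).1 h3D
  have h1fix : (1 : Dq) ∈ MulAction.fixedPoints P Dq := fun w => Subtype.ext (by rw [hact]; simp)
  obtain ⟨⟨⟨q, hqD⟩, hqf⟩, hq1⟩ : ∃ q : MulAction.fixedPoints P Dq, (q : Dq) ≠ 1 := by
    haveI : Nonempty (MulAction.fixedPoints P Dq) := ⟨⟨1, h1fix⟩⟩
    have h2 : 1 < Nat.card (MulAction.fixedPoints P Dq) := by
      have := Nat.le_of_dvd Nat.card_pos hmod
      omega
    haveI := Finite.one_lt_card_iff_nontrivial.1 h2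
    obtain ⟨q, hq⟩ := exists_ne (⟨1, h1fix⟩ : MulAction.fixedPoints P Dq)
    exact ⟨q, fun e => hq (Subtype.ext e)⟩
  obtain ⟨d, hd, rfl⟩ := hqD
  have hfix : ∀ w : H, π w ∈ P → w * d * w⁻¹ * d⁻¹ ∈ h.Zc := fun w hw => by
    have := congrArg Subtype.val (hqf ⟨π w, hw⟩)
    rw [hact] at this
    rw [← hπ, map_mul, map_mul, map_mul, map_inv, map_inv]
    rw [this]
    exact mul_inv_cancel _
  obtain ⟨i, j, k, hk, hdk⟩ := h.monomial (hfix _ (Subgroup.subset_closure (Set.mem_insert _ _)))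
    (hfix _ (Subgroup.subset_closure (Set.mem_insert_of_mem _ rfl)))
  have hij : ¬ (i = 0 ∧ j = 0) := by
    rintro ⟨rfl, rfl⟩
    refine hq1 (Subtype.ext ((hπ d).2 (h.mem_Zc.2 ⟨k, ?_⟩)))
    simpa using hdk
  -- the orbit under the quaternion group and products
  let InD : Matrix (Fin 3) (Fin 3) F → Prop := fun M => ∃ (d : H) (k : F), d ∈ D ∧ h.mat d = k • M
  have hmul : ∀ M M', InD M → InD M' → InD (M * M') := by
    rintro M M' ⟨d, k, hd, e⟩ ⟨d', k', hd', e'⟩
    exact ⟨d * d', k * k', mul_mem hd hd', by rw [h.mat_mul, e, e', smul_mul_assoc, mul_smul_comm, smul_smul]⟩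
  have hsc : ∀ (M M' : Matrix (Fin 3) (Fin 3) F) (c : F), M = c • M' → InD M → InD M' := by
    rintro M M' c rfl ⟨d, k, hd, e⟩
    exact ⟨d, k * c, hd, by rw [e, smul_smul]⟩
  have hA : ∀ M S, A ω * M = S * A ω → InD M → InD S := by
    rintro M S e ⟨d, k, hd, e'⟩
    refine ⟨h.a * d * h.a⁻¹, k, Subgroup.Normal.conj_mem inferInstance d hd _, ?_⟩
    rw [h.mat_mul, h.mat_mul, e']
    show A ω * k • M * (A ω * A ω * A ω) = k • S
    rw [mul_smul_comm, smul_mul_assoc, e, mul_assoc, A_four hω, mul_one]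
  have h3 := hω.pow_eq_one
  have hX3 : X ω ^ 3 = 1 := X_pow_three hω
  have hY3 : Y F ^ 3 = 1 := Y_pow_three
  have fromX : InD (X ω) → InD (X ω) ∧ InD (Y F) := fun hx => by
    have hY2 : InD (Y F * Y F) := hA _ _ (A_X hω) hx
    refine ⟨hx, ?_⟩
    have := hmul _ _ hY2 hY2
    rwa [show Y F * Y F * (Y F * Y F) = Y F * Y F * Y F * Y F by simp only [mul_assoc], Y_cube, one_mul] at this
  have fromY : InD (Y F) → InD (X ω) := hA _ _ (A_Y hω)
  have sqX : InD (X ω * X ω) → InD (X ω) := fun hx => by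
    have := hmul _ _ hx hx
    rwa [show X ω * X ω * (X ω * X ω) = X ω * X ω * X ω * X ω by simp only [mul_assoc], X_cube hω, one_mul] at this
  have sqY : InD (Y F * Y F) → InD (Y F) := fun hy => by
    have := hmul _ _ hy hy
    rwa [show Y F * Y F * (Y F * Y F) = Y F * Y F * Y F * Y F by simp only [mul_assoc], Y_cube, one_mul] at this
  have cXY : InD (X ω * Y F) → InD (X ω) := fun hm =>
    sqX (hsc _ _ _ (XYY_mul_XY hω) (hmul _ _ (hA _ _ (A_XY hω) hm) hm))
  have cXY2 : InD (X ω * (Y F * Y F)) → InD (X ω) := fun hm =>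
    fromY (hsc _ _ _ (XXYY_mul_XYY hω) (hmul _ _ (hA _ _ (A_XYY hω) hm) hm))
  have main : InD (X ω) := by
    have hm : InD (X ω ^ (i : ℕ) * Y F ^ (j : ℕ)) := ⟨d, k, hd, hdk⟩
    have sq21 : InD (X ω * X ω * Y F) → InD (X ω * (Y F * Y F)) := fun hm =>
      hsc _ _ _ (XXY_sq hω) (hmul _ _ hm hm)
    have sq22 : InD (X ω * X ω * (Y F * Y F)) → InD (X ω * Y F) := fun hm =>
      hsc _ _ _ (XXYY_sq hω) (hmul _ _ hm hm)
    fin_cases i <;> fin_cases j <;> simp [pow_two] at hij hm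
    exacts [fromY hm, fromY (sqY hm), hm, cXY hm, cXY2 hm, sqX hm, cXY2 (sq21 hm), cXY (sq22 hm)]
  exact fromX main

/-- Without transvections the group normalises the standard group. -/
theorem Setup.normalizes : H ≤ Cfsg.Geo.subgroupNormalizer (stdR hω) := by
  classical
  haveI := h.Zc_normal
  obtain ⟨S, hS⟩ := h.exists_sylow
  have q := h.quat
  obtain ⟨t, ht⟩ : ∃ t, t = h.a ^ 2 := ⟨_, rfl⟩
  have ht2 : orderOf t = 2 := by
    haveI : Fact (Nat.Prime 2) := ⟨Nat.prime_two⟩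
    exact orderOf_eq_prime (by rw [ht, ← pow_mul]; exact q.four) (ht ▸ q.ne)
  have hta : t ∈ S := by
    show t ∈ (S : Subgroup H)
    rw [hS, ht]
    exact pow_mem (Subgroup.subset_closure (Set.mem_insert _ _)) 2
  have hiso : IsIsolatedInvolution t := Cfsg.Agent.ZStar.isolated_of_sylow ht2 hta fun g hg => by
    have hgQ : g * t * g⁻¹ ∈ h.Q := by rw [← hS]; exact hg
    have h2 : (g * t * g⁻¹) ^ 2 = 1 := by rw [conj_pow, ht, ← pow_mul, q.four, mul_one, mul_inv_cancel]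
    have hne1 : g * t * g⁻¹ ≠ 1 := fun e => by
      rw [conj_eq_one_iff] at e; rw [e, orderOf_one] at ht2; omega
    obtain ⟨i, j, hi, hj, e⟩ := q.mem_closure hgQ
    have hj0 : j = 0 := by
      by_contra hj0
      obtain rfl : j = 1 := by omega
      rw [e] at h2
      refine q.ne ?_
      rw [pow_one, pow_two, mul_assoc, ← mul_assoc h.b, q.b_mul_pow, mul_assoc, ← pow_two h.b, q.sq,
        ← mul_assoc, ← pow_add, ← pow_add] at h2
      rw [q.pow_mod] at h2
      rwa [show (i + 3 * i + 2) % 4 = 2 by omega] at h2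
    subst hj0
    rw [pow_zero, mul_one] at e
    rw [e] at h2 hne1 ⊢
    rw [← pow_mul, q.pow_mod] at h2
    obtain rfl | rfl | rfl | rfl : i = 0 ∨ i = 1 ∨ i = 2 ∨ i = 3 := by omega
    · simp at hne1
    · exact absurd h2 q.ne
    · exact ht.symm
    · exact absurd h2 q.ne
  have hZ := Cfsg.Agent.ZStar.inZStar hiso
  haveI hOn : (Cfsg.oddCore H).Normal := Cfsg.Agent.SolvableTwo.oddCore_normal
  have hOodd : Odd (Nat.card (Cfsg.oddCore H)) := Cfsg.Agent.SolvableTwo.odd_card_oddCore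
  have hxO : h.x ∈ Cfsg.oddCore H := by
    have h1 : h.x * t * h.x⁻¹ * t⁻¹ ∈ Cfsg.oddCore H := hZ h.x
    have e : h.x * t * h.x⁻¹ * t⁻¹ = h.x * h.x := by
      refine mul_inv_eq_iff_eq_mul.2 (mul_inv_eq_iff_eq_mul.2 ?_)
      refine Subtype.ext (Units.ext ?_)
      simp only [ht, pow_two, Setup.x, Setup.a, Subgroup.coe_mul, Units.val_mul, coe_gX, coe_gA, A_sq hω]
      have h1 := sum_eq_zero hω
      ext a b
      fin_cases a <;> fin_cases b <;> simp [X, Matrix.mul_apply, Fin.sum_univ_three] <;> grind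
    rw [e] at h1
    have := mul_mem h1 h1
    rwa [show h.x * h.x * (h.x * h.x) = h.x ^ 3 * h.x by simp [pow_succ, mul_assoc],
      show h.x ^ 3 = 1 from Subtype.ext (gX_cube hω), one_mul] at this
  -- a minimal non-scalar normal subgroup in the core
  have hex : ∃ n, ∃ D : Subgroup H, D.Normal ∧ D ≤ Cfsg.oddCore H ∧ ¬ D ≤ h.Zc ∧ Nat.card D = n :=
    ⟨_, Cfsg.oddCore H, hOn, le_rfl, fun e => h.x_not_scalar (e hxO), rfl⟩
  obtain ⟨D, hDn, hDO, hDs, hDc⟩ := Nat.find_spec hex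
  haveI := hDn
  have hcl : ∀ a ∈ D, ∀ b ∈ D, a * b * a⁻¹ * b⁻¹ ∈ h.Zc := by
    have hsol : Group.IsSolvable (Cfsg.oddCore H) := Cfsg.Agent.S0205.result hOodd
    have hlt : ⁅D, D⁆ < D := by
      haveI : Group.IsSolvable D := Group.isSolvable_of_isSolvable_injective (f := Subgroup.inclusion hDO)
        (Subgroup.inclusion_injective hDO)
      haveI : Nontrivial D := (Subgroup.nontrivial_iff_ne_bot D).2 fun e => hDs (e ▸ bot_le)
      have h1 : commutator D < ⊤ := Group.IsSolvable.commutator_lt_top_of_nontrivial D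
      refine lt_of_le_of_ne (Subgroup.commutator_le_right D D) fun e => h1.ne ?_
      refine Subgroup.map_injective D.subtype_injective ?_
      rw [Subgroup.map_subtype_commutator, e, ← MonoidHom.range_eq_map, Subgroup.range_subtype]
    by_contra hcon
    push Not at hcon
    obtain ⟨a, ha, b, hb, hab⟩ := hcon
    have hD' : ¬ ⁅D, D⁆ ≤ h.Zc := fun e => hab (e (Subgroup.commutator_mem_commutator ha hb))
    have hcard : Nat.card ↥⁅D, D⁆ < Nat.card D := by
      by_contra hh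
      push Not at hh
      exact hlt.ne (Subgroup.eq_of_le_of_card_ge hlt.le hh)
    exact Nat.find_min hex (hDc ▸ hcard) ⟨⁅D, D⁆, inferInstance, hlt.le.trans hDO, hD', rfl⟩
  obtain ⟨⟨dx, kx, hdx, ex⟩, ⟨dy, ky, hdy, ey⟩⟩ := h.class_two hDs hcl
  have hk : kx ≠ 0 ∧ ky ≠ 0 :=
    ⟨fun e => h.mat_ne_zero dx (by rw [ex, e, zero_smul]), fun e => h.mat_ne_zero dy (by rw [ey, e, zero_smul])⟩
  have hmon : ∀ d ∈ D, ∃ (a b : Fin 3) (k : F), h.mat d = k • (X ω ^ (a : ℕ) * Y F ^ (b : ℕ)) := by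
    intro d hd
    have key : ∀ (w : H) (dw : H) (kw : F) (M : Matrix (Fin 3) (Fin 3) F), dw ∈ D → h.mat dw = kw • M → kw ≠ 0 →
        h.mat w = M → w * d * w⁻¹ * d⁻¹ ∈ h.Zc := by
      intro w dw kw M hdw e hkw ew
      obtain ⟨c, hc⟩ := h.mem_Zc.1 (hcl dw hdw d hd)
      refine h.mem_Zc.2 ⟨c, ?_⟩
      have hs : dw * w⁻¹ ∈ h.Zc := h.mem_Zc.2 ⟨kw, by
        rw [h.mat_mul, e, ← ew, smul_mul_assoc, ← h.mat_mul, mul_inv_cancel]; rfl⟩
      obtain ⟨s, hs'⟩ := h.mem_Zc.1 hs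
      have hcen : ∀ v : H, v * (dw * w⁻¹) = dw * w⁻¹ * v := fun v => Subtype.ext (Units.ext (by
        show h.mat (v * (dw * w⁻¹)) = h.mat (dw * w⁻¹ * v)
        rw [h.mat_mul v, h.mat_mul (dw * w⁻¹) v, hs', mul_smul_comm, smul_mul_assoc, one_mul, mul_one]))
      have : w * d * w⁻¹ = dw * d * dw⁻¹ := by
        have e1 := hcen (w * d * w⁻¹)
        calc w * d * w⁻¹ = w * d * w⁻¹ * (dw * w⁻¹) * (dw * w⁻¹)⁻¹ := by group
          _ = dw * w⁻¹ * (w * d * w⁻¹) * (dw * w⁻¹)⁻¹ := by rw [e1]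
          _ = dw * d * dw⁻¹ := by group
      rw [this]; exact hc
    obtain ⟨a, b, k, -, e⟩ := h.monomial (key h.x dx kx _ hdx ex hk.1 rfl) (key h.y dy ky _ hdy ey hk.2 rfl)
    exact ⟨a, b, k, e⟩
  have himg : ∀ (w : H) (v : H) (dv : H) (kv : F) (M : Matrix (Fin 3) (Fin 3) F), dv ∈ D → h.mat dv = kv • M →
      kv ≠ 0 → h.mat v = M → ((w * v * w⁻¹ : H) : GL (Fin 3) F) ∈ stdR hω := by
    intro w v dv kv M hdv e hkv ev
    obtain ⟨a, b, k, hk'⟩ := hmon _ (Subgroup.Normal.conj_mem inferInstance dv hdv w)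
    refine mem_stdR hω (h.sl_det _) (k := k / kv) (a := a) (b := b) ?_
    show h.mat (w * v * w⁻¹) = _
    rw [h.mat_mul, h.mat_mul, e, mul_smul_comm, smul_mul_assoc] at hk'
    rw [h.mat_mul, h.mat_mul, ev, div_eq_mul_inv, mul_comm, ← smul_smul, ← hk', inv_smul_smul₀ hkv]
  intro g hg
  rw [Cfsg.Geo.subgroupNormalizer, Subgroup.mem_normalizer_iff_map_conj_eq]
  have hle : (stdR hω).map (MulAut.conj g).toMonoidHom ≤ stdR hω := by
    rw [stdR, MonoidHom.map_closure, Subgroup.closure_le]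
    rintro _ ⟨v, hv, rfl⟩
    rcases hv with rfl | rfl
    · exact himg ⟨g, hg⟩ h.x dx kx _ hdx ex hk.1 rfl
    · exact himg ⟨g, hg⟩ h.y dy ky _ hdy ey hk.2 rfl
  refine Subgroup.eq_of_le_of_card_ge hle (le_of_eq ?_)
  exact (Subgroup.card_map_of_injective (MulAut.conj g).injective).symm

end Cfsg.Agent.MaxCl.SLThree.C6
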