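import Cfsg.Agent.Lib.MaxCl.SLThree.C6.Std
import Cfsg.Agent.Lib.MaxCl.SLThree.Elation
import Cfsg.Agent.Lib.Aschbacher.SUExplicit.SymplType

/-!
# Groups of symplectic type in dimension three are conjugate to the standard group
-/

set_option autoImplicit false
set_option linter.unusedSectionVars false

namespace Cfsg.Agent.MaxCl.SLThree.C6

open Matrix
open Cfsg.Geo

variable {F : Type*} [Field F]

/-- An absolutely irreducible group of exponent three and symplectic type is conjugate to the standard group. -/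
theorem exists_stdR [Fintype F] {R : Subgroup (GL (Fin 3) F)} (hR : IsSymplecticTypeGroup 3 R)
    (habs : ActsAbsolutelyIrreducibly (matrixSet R)) :
    ∃ (ω : F) (hω : IsPrimitiveRoot ω 3) (P : GL (Fin 3) F),
      R = (stdR hω).map (MulAut.conj P).toMonoidHom := by
  have hexp : ∀ x ∈ R, x ^ 3 = 1 := fun x hx => by
    have h := Monoid.pow_exponent_eq_one (⟨x, hx⟩ : R)
    rw [hR.exponent_eq] at h
    exact congrArg Subtype.val h
  have hcomm := Cfsg.Agent.Aschbacher.SUExplicit.commutator_mem_scalars hR habs (fun h => absurd h (by norm_num))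
  have hrel : ∀ x ∈ R, ∀ y ∈ R, ∃ c : F, (x : Matrix (Fin 3) (Fin 3) F) * (y : Matrix (Fin 3) (Fin 3) F) =
      c • ((y : Matrix (Fin 3) (Fin 3) F) * (x : Matrix (Fin 3) (Fin 3) F)) := by
    intro x hx y hy
    obtain ⟨c, hc⟩ := (mem_scalars_iff _).1 (hcomm x hx y hy)
    refine ⟨c, ?_⟩
    have e : x * y = x * y * x⁻¹ * y⁻¹ * (y * x) := by group
    have e' := congrArg (fun g : GL (Fin 3) F => (g : Matrix (Fin 3) (Fin 3) F)) e
    simp only [Units.val_mul] at e'
    simp only [Units.val_mul] at hc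
    rw [e', hc, smul_mul_assoc, one_mul]
  obtain ⟨x, hx, y, hy, hne⟩ : ∃ x ∈ R, ∃ y ∈ R, x * y ≠ y * x := by
    by_contra hall
    push Not at hall
    have hsc : ∀ s ∈ matrixSet R, ∃ c : F, s = c • 1 := by
      rintro _ ⟨g, hg, rfl⟩
      exact habs.2 _ (by
        rintro _ ⟨k, hk, rfl⟩
        exact congrArg (fun u : GL (Fin 3) F => (u : Matrix (Fin 3) (Fin 3) F)) (hall g hg k hk))
    have he : (Pi.single 0 1 : Fin 3 → F) ≠ 0 := fun h => by simpa using congrFun h 0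
    rcases habs.1 (F ∙ (Pi.single 0 1 : Fin 3 → F)) (fun s hs => by
      obtain ⟨c, rfl⟩ := hsc s hs
      rw [Submodule.map_le_iff_le_comap, Submodule.span_singleton_le_iff_mem, Submodule.mem_comap]
      simpa using Submodule.smul_mem _ c (Submodule.mem_span_singleton_self _)) with hb | ht
    · exact he ((Submodule.mem_bot F).1 (hb ▸ Submodule.mem_span_singleton_self _))
    · have h1 := finrank_span_singleton (K := F) he
      rw [ht, finrank_top, Module.finrank_pi, Fintype.card_fin] at h1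
      omega
  obtain ⟨ω, e⟩ := hrel x hx y hy
  obtain ⟨r, hr'⟩ : ∃ r, r = (x : Matrix (Fin 3) (Fin 3) F) := ⟨_, rfl⟩
  obtain ⟨s, hs'⟩ : ∃ s, s = (y : Matrix (Fin 3) (Fin 3) F) := ⟨_, rfl⟩
  rw [← hr', ← hs'] at e
  have hr : r ^ 3 = 1 := by rw [hr', ← Units.val_pow_eq_pow_val, hexp x hx, Units.val_one]
  have hs : s ^ 3 = 1 := by rw [hs', ← Units.val_pow_eq_pow_val, hexp y hy, Units.val_one]
  have hne' : r * s ≠ s * r := fun h => hne (Units.ext (by rw [Units.val_mul, Units.val_mul, ← hr', ← hs', h]))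
  have hω1 : ω ≠ 1 := fun h => hne' (by rw [e, h, one_smul])
  have hω3 : ω ^ 3 = 1 := by
    have h3 : r ^ 3 * s = ω ^ 3 • (s * r ^ 3) := by
      simp only [pow_three, mul_assoc]
      rw [e, mul_smul_comm, ← mul_assoc r s r, e, smul_mul_assoc, smul_smul, mul_assoc s r r, mul_smul_comm,
        ← mul_assoc r s, e, smul_mul_assoc, smul_smul, mul_assoc s r]
      ring_nf
    rw [hr, one_mul, mul_one] at h3
    have hs0 : s ≠ 0 := fun h => by rw [h] at hs; simp at hs
    have h4 : (ω ^ 3 - 1) • s = 0 := by rw [sub_smul, one_smul, ← h3, sub_self]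
    exact sub_eq_zero.1 ((smul_eq_zero.1 h4).resolve_right hs0)
  have hω : IsPrimitiveRoot ω 3 := IsPrimitiveRoot.iff_orderOf.2 (orderOf_eq_prime hω3 hω1)
  obtain ⟨P, h1, h2⟩ := exists_normal hω hr hs e
  have eX : P⁻¹ * x * P = gX hω := by
    rw [mul_assoc, inv_mul_eq_iff_eq_mul]
    exact Units.ext (by rw [Units.val_mul, Units.val_mul, coe_gX, ← hr', h1])
  have eY : P⁻¹ * y * P = gY F := by
    rw [mul_assoc, inv_mul_eq_iff_eq_mul]
    exact Units.ext (by rw [Units.val_mul, Units.val_mul, coe_gY, ← hs', h2])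
  obtain ⟨R', hR'⟩ : ∃ R' : Subgroup (GL (Fin 3) F), R' = R.map (MulAut.conj P⁻¹).toMonoidHom := ⟨_, rfl⟩
  have hmem : ∀ g ∈ R', P * g * P⁻¹ ∈ R := by
    intro g hg
    rw [hR'] at hg
    obtain ⟨u, hu, rfl⟩ := hg
    simp only [MulEquiv.coe_toMonoidHom, MulAut.conj_apply]
    rwa [show P * (P⁻¹ * u * P⁻¹⁻¹) * P⁻¹ = u by group]
  have hexp' : ∀ g ∈ R', g ^ 3 = 1 := fun g hg => by
    have := hexp _ (hmem g hg)
    rwa [conj_pow, conj_eq_one_iff] at this
  have hxR' : gX hω ∈ R' := hR' ▸ ⟨x, hx, by simp [← eX]⟩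
  have hyR' : gY F ∈ R' := hR' ▸ ⟨y, hy, by simp [← eY]⟩
  have hrel' : ∀ u ∈ R', ∀ g ∈ R', ∃ c : F, (u : Matrix (Fin 3) (Fin 3) F) * (g : Matrix (Fin 3) (Fin 3) F) =
      c • ((g : Matrix (Fin 3) (Fin 3) F) * (u : Matrix (Fin 3) (Fin 3) F)) := by
    intro u hu g hg
    obtain ⟨c, hc⟩ := hrel _ (hmem u hu) _ (hmem g hg)
    refine ⟨c, ?_⟩
    have hc' := congrArg (fun M => ((P⁻¹ : GL (Fin 3) F) : Matrix (Fin 3) (Fin 3) F) * M *
      (P : Matrix (Fin 3) (Fin 3) F)) hc
    simp only [Units.val_mul, mul_smul_comm, smul_mul_assoc] at hc'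
    simpa [mul_assoc] using hc'
  have hle : R' ≤ stdR hω := by
    intro g hg
    obtain ⟨c₁, hc1⟩ := hrel' _ hxR' g hg
    obtain ⟨c₂, hc2⟩ := hrel' _ hyR' g hg
    obtain ⟨a, b, k, -, ek⟩ := monomial_of_comm hω (Units.ne_zero g) hc1 hc2
    obtain ⟨m, hm⟩ : ∃ m, m = gX hω ^ (a : ℕ) * gY F ^ (b : ℕ) := ⟨_, rfl⟩
    have hmR : m ∈ R' := hm ▸ mul_mem (pow_mem hxR' _) (pow_mem hyR' _)
    have hmd : (m : Matrix (Fin 3) (Fin 3) F).det = 1 := by
      simp [hm, det_X hω, det_Y]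
    have em : (g : Matrix (Fin 3) (Fin 3) F) = k • (m : Matrix (Fin 3) (Fin 3) F) := by
      simp [hm, ek]
    have h3 := hexp' _ (mul_mem hg (inv_mem hmR))
    have hk : k ^ 3 = 1 := by
      have e3 := congrArg (fun u : GL (Fin 3) F => (u : Matrix (Fin 3) (Fin 3) F)) h3
      simp only [Units.val_pow_eq_pow_val, Units.val_mul, Units.val_one, em, smul_mul_assoc, Units.mul_inv,
        smul_pow, one_pow] at e3
      simpa using congrFun (congrFun e3 0) 0
    refine mem_stdR hω ?_ ek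
    rw [em, Matrix.det_smul, hmd, Fintype.card_fin, hk, mul_one]
  have heq : R' = stdR hω := le_antisymm hle (by
    rw [stdR, Subgroup.closure_le]
    rintro _ (rfl | rfl)
    exacts [hxR', hyR'])
  refine ⟨ω, hω, P, ?_⟩
  rw [← heq, hR', Subgroup.map_map]
  convert (Subgroup.map_id R).symm
  ext u
  simp [mul_assoc]

variable {ω : F} (hω : IsPrimitiveRoot ω 3)
include hω

theorem mem_normalizer_stdR [Finite F] {g : GL (Fin 3) F} (h1 : g * gX hω * g⁻¹ ∈ stdR hω) (h2 : g * gY F * g⁻¹ ∈ stdR hω) :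
    g ∈ subgroupNormalizer (stdR hω) := by
  have hle : (stdR hω).map (MulAut.conj g).toMonoidHom ≤ stdR hω := by
    rw [stdR, MonoidHom.map_closure, Subgroup.closure_le]
    rintro _ ⟨v, hv, rfl⟩
    rcases hv with rfl | rfl
    · exact h1
    · exact h2
  rw [subgroupNormalizer, Subgroup.mem_normalizer_iff_map_conj_eq]
  exact Subgroup.eq_of_le_of_card_ge hle
    (le_of_eq (Subgroup.card_map_of_injective (MulAut.conj g).injective).symm)

/-- Conjugates of the generators are read off from matrix identities. -/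
theorem conj_mem_stdR {g w : GL (Fin 3) F} (hw : (w : Matrix (Fin 3) (Fin 3) F).det = 1) {k : F} {a b : ℕ}
    (h : (g : Matrix (Fin 3) (Fin 3) F) * (w : Matrix (Fin 3) (Fin 3) F) =
      k • (X ω ^ a * Y F ^ b * (g : Matrix (Fin 3) (Fin 3) F))) :
    g * w * g⁻¹ ∈ stdR hω := by
  refine mem_stdR hω ?_ (k := k) (a := a) (b := b) ?_
  · rw [Units.val_mul, Units.val_mul, Matrix.det_mul, Matrix.det_mul, hw, mul_one, ← Matrix.det_mul,
      Units.mul_inv, Matrix.det_one]
  · rw [Units.val_mul, Units.val_mul, h, smul_mul_assoc, mul_assoc, Units.mul_inv, mul_one]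

theorem gens_normalize [Finite F] :
    gX hω ∈ subgroupNormalizer (stdR hω) ∧ gY F ∈ subgroupNormalizer (stdR hω) ∧
      gA hω ∈ subgroupNormalizer (stdR hω) ∧ gB hω ∈ subgroupNormalizer (stdR hω) := by
  have hle : stdR hω ≤ subgroupNormalizer (stdR hω) := Subgroup.le_normalizer
  refine ⟨hle (gX_mem hω), hle (gY_mem hω), mem_normalizer_stdR hω ?_ ?_, mem_normalizer_stdR hω ?_ ?_⟩
  · exact conj_mem_stdR hω (det_X hω) (k := 1) (a := 0) (b := 2) (by
      rw [one_smul, pow_zero, one_mul, pow_two, coe_gA, coe_gX, A_X hω])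
  · exact conj_mem_stdR hω det_Y (k := 1) (a := 1) (b := 0) (by
      rw [one_smul, pow_zero, mul_one, pow_one, coe_gA, coe_gY, A_Y hω])
  · exact conj_mem_stdR hω (det_X hω) (k := ω ^ 2) (a := 1) (b := 2) (by
      rw [pow_one, pow_two (Y F), coe_gB, coe_gX, B_X hω])
  · exact conj_mem_stdR hω det_Y (k := ω) (a := 2) (b := 2) (by
      rw [pow_two (X ω), pow_two (Y F), coe_gB, coe_gY, B_Y hω])

/-- Only the two trivial subspaces are invariant under both generators. -/
theorem stdR_irreducible (W : Submodule F (Fin 3 → F))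
    (hX : ∀ x ∈ W, X ω *ᵥ x ∈ W) (hY : ∀ x ∈ W, Y F *ᵥ x ∈ W) : W = ⊥ ∨ W = ⊤ := by
  refine (eq_or_ne W ⊥).imp_right fun hb => ?_
  have hsum := sum_eq_zero hω
  have h3 := cube hω
  obtain ⟨x, hx, hx0⟩ := W.exists_mem_ne_zero_of_ne_bot hb
  obtain ⟨i, hi⟩ := Function.ne_iff.1 hx0
  have he : (Pi.single i 1 : Fin 3 → F) ∈ W := by
    have e : (3 * x i) • (Pi.single i 1 : Fin 3 → F) =
        x + ω ^ (2 * (i : ℕ)) • (X ω *ᵥ x) + ω ^ (i : ℕ) • (X ω *ᵥ (X ω *ᵥ x)) := by
      have hXv : ∀ (y : Fin 3 → F) (k : Fin 3), (X ω *ᵥ y) k = ω ^ (k : ℕ) * y k := by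
        intro y k
        fin_cases k <;> simp [X, Matrix.mulVec, dotProduct, Fin.sum_univ_three]
      funext k
      clear hX hY hx hx0 hi hb
      simp only [Pi.add_apply, Pi.smul_apply, hXv, smul_eq_mul]
      fin_cases i <;> fin_cases k <;> simp <;> grind
    have h1 : (3 * x i) • (Pi.single i 1 : Fin 3 → F) ∈ W :=
      e ▸ add_mem (add_mem hx (W.smul_mem _ (hX _ hx))) (W.smul_mem _ (hX _ (hX _ hx)))
    exact (W.smul_mem_iff (mul_ne_zero (three_ne_zero' hω) hi)).1 h1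
  have hstep : ∀ j : Fin 3, Y F *ᵥ (Pi.single j 1) = Pi.single (j + 1) 1 := by
    intro j
    funext k
    fin_cases j <;> fin_cases k <;> simp [Y]
  have hj : ∀ j : Fin 3, (Pi.single j 1 : Fin 3 → F) ∈ W := by
    intro j
    have h1 := hstep i ▸ hY _ he
    have h2 := hstep (i + 1) ▸ hY _ h1
    have hd : ∀ i j : Fin 3, j = i ∨ j = i + 1 ∨ j = i + 1 + 1 := by decide
    obtain rfl | rfl | rfl := hd i j
    exacts [he, h1, h2]
  refine Submodule.eq_top_iff'.2 fun v => ?_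
  rw [← Finset.univ_sum_single v]
  refine sum_mem fun j _ => ?_
  have := W.smul_mem (v j) (hj j)
  rwa [← Pi.single_smul, smul_eq_mul, mul_one] at this

end Cfsg.Agent.MaxCl.SLThree.C6
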