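import Mathlib

/-!
# A coprime linear group over a finite field lifts to characteristic zero

The lifts modulo all powers of the characteristic (Schur–Zassenhaus) give a representation over the product of
the rings, and hence over a field of characteristic zero.
-/

set_option autoImplicit false
set_option linter.unusedSectionVars false
set_option linter.style.haveILetI false

namespace Cfsg.Agent.MaxCl.SLThree.C6

open Matrix

universe u v

section Ring

variable {p : ℕ}

/-- An element congruent to one modulo `p` in a ring where `p` is nilpotent has order a power of `p`. -/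
theorem pow_eq_one_of_map_eq_one {R T : Type*} [Ring R] [Ring T] (ψ : R →+* T) (hT : (p : T) = 0) {k : ℕ}
    (hker : ∀ x, ψ x = 0 → ∃ y, x = p * y) (hpk : (p : R) ^ k = 0) {M : R} (h : ψ M = 1) : M ^ p ^ k = 1 := by
  have key : ∀ i, ∃ N, M ^ (p ^ i) - 1 = (p : R) ^ (i + 1) * N := by
    intro i
    induction i with
    | zero =>
      obtain ⟨N, hN⟩ := hker (M - 1) (by rw [map_sub, h, map_one, sub_self])
      exact ⟨N, by simpa using hN⟩
    | succ i ih =>
      obtain ⟨N, hN⟩ := ih
      obtain ⟨N', hN'⟩ := hker (∑ j ∈ Finset.range p, (M ^ (p ^ i)) ^ j) (by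
        rw [map_sum, Finset.sum_congr rfl (g := fun _ => (1 : T)) (fun j _ => by simp [h])]
        simp [hT])
      refine ⟨N * N', ?_⟩
      rw [show p ^ (i + 1) = p ^ i * p from pow_succ p i, pow_mul, ← mul_geom_sum, hN, hN', pow_succ _ (i + 1)]
      have hc : N * (p : R) = (p : R) * N := ((Nat.cast_commute p N).symm).eq
      calc (p : R) ^ (i + 1) * N * ((p : R) * N') = (p : R) ^ (i + 1) * (N * (p : R)) * N' := by
            simp only [mul_assoc]
        _ = (p : R) ^ (i + 1) * (p : R) * (N * N') := by rw [hc]; simp only [mul_assoc]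
  obtain ⟨N, hN⟩ := key k
  rwa [pow_succ, hpk, zero_mul, zero_mul, sub_eq_zero] at hN

variable {S : Type*} [CommRing S] {F : Type*} [Field F] {φ : S →+* F} {k : ℕ}

/-- The units are the elements non-zero modulo `p`. -/
theorem isUnit_of_map_ne_zero (hsur : Function.Surjective φ) (hker : ∀ x, φ x = 0 → ∃ y, x = p * y)
    (hpk : (p : S) ^ k = 0) {x : S} (h : φ x ≠ 0) : IsUnit x := by
  obtain ⟨y, hy⟩ := hsur (φ x)⁻¹
  obtain ⟨z, hz⟩ := hker (x * y - 1) (by rw [map_sub, map_mul, hy, map_one, mul_inv_cancel₀ h, sub_self])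
  have hn : IsNilpotent ((p : S) * z) := ⟨k, by rw [mul_pow, hpk, zero_mul]⟩
  have h1 : IsUnit (x * y) := by
    have := hn.isUnit_one_add
    rwa [← hz, add_sub_cancel] at this
  exact isUnit_of_mul_isUnit_left h1

/-- A coprime representation lifts over `p`, and determinants one stay determinants one. -/
theorem exists_lift_ring [Finite S] [Fact p.Prime] [CharP F p] (hsur : Function.Surjective φ)
    (hker : ∀ x, φ x = 0 → ∃ y, x = p * y) (hpk : (p : S) ^ k = 0) {n : ℕ} {A : Type*} [Group A] [Finite A]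
    (hA : ¬ p ∣ Nat.card A) (ρ : A →* Matrix (Fin n) (Fin n) F) :
    ∃ ρ' : A →* Matrix (Fin n) (Fin n) S, ∀ a, φ.mapMatrix (ρ' a) = ρ a ∧
      ((ρ a).det = 1 → (ρ' a).det = 1) := by
  have hpF : (p : F) = 0 := CharP.cast_eq_zero F p
  have hsurM : Function.Surjective (φ.mapMatrix (m := Fin n)) := fun M => by
    choose M' hM' using fun i j => hsur (M i j)
    exact ⟨Matrix.of M', Matrix.ext fun i j => hM' i j⟩
  have hkerM : ∀ M : Matrix (Fin n) (Fin n) S, φ.mapMatrix M = 0 → ∃ N, M = (p : Matrix (Fin n) (Fin n) S) * N := by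
    intro M hM
    choose N hN using fun i j => hker (M i j) (congrFun (congrFun hM i) j)
    refine ⟨Matrix.of N, Matrix.ext fun i j => ?_⟩
    rw [hN i j, ← Matrix.diagonal_natCast, Matrix.diagonal_mul]
    rfl
  have hpkM : (p : Matrix (Fin n) (Fin n) S) ^ k = 0 := by
    rw [← Nat.cast_pow, ← Matrix.diagonal_natCast]
    simp [Nat.cast_pow, hpk]
  have hpTM : (p : Matrix (Fin n) (Fin n) F) = 0 := by
    rw [← Matrix.diagonal_natCast]
    simp [hpF]
  let red : (Matrix (Fin n) (Fin n) S)ˣ →* (Matrix (Fin n) (Fin n) F)ˣ :=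
    Units.map (φ.mapMatrix (m := Fin n)).toMonoidHom
  let P : Subgroup (A × (Matrix (Fin n) (Fin n) S)ˣ) :=
    MonoidHom.eqLocus (ρ.toHomUnits.comp (MonoidHom.fst _ _)) (red.comp (MonoidHom.snd _ _))
  let π : ↥P →* A := (MonoidHom.fst _ _).comp P.subtype
  have hsurj : Function.Surjective π := by
    intro a
    obtain ⟨M, hM⟩ := hsurM (ρ a)
    have hu : IsUnit M := by
      rw [Matrix.isUnit_iff_isUnit_det]
      refine isUnit_of_map_ne_zero hsur hker hpk ?_
      rw [RingHom.map_det, hM]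
      exact ((Matrix.isUnit_iff_isUnit_det _).1 (ρ.toHomUnits a).isUnit).ne_zero
    exact ⟨⟨(a, hu.unit), Units.ext hM.symm⟩, rfl⟩
  have hkp : IsPGroup p π.ker := by
    rintro ⟨⟨⟨a, g⟩, hg⟩, hx⟩
    obtain rfl : a = 1 := hx
    refine ⟨k, Subtype.ext (Subtype.ext (Prod.ext ?_ (Units.ext ?_)))⟩
    · simp
    · have h1 : φ.mapMatrix (g : Matrix (Fin n) (Fin n) S) = 1 := by
        have := congrArg (Units.val) (Eq.symm (α := (Matrix (Fin n) (Fin n) F)ˣ) hg)
        exact this.trans (by simp)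
      simpa using pow_eq_one_of_map_eq_one φ.mapMatrix hpTM hkerM hpkM h1
  have hcopA : (Nat.card A).Coprime p := ((Fact.out : p.Prime).coprime_iff_not_dvd.2 hA).symm
  haveI : Finite π.ker := by
    haveI : Finite ↥P := inferInstance
    infer_instance
  have hcop : (Nat.card π.ker).Coprime π.ker.index := by
    obtain ⟨m, hm⟩ := IsPGroup.iff_card.1 hkp
    rw [hm, Subgroup.index_ker, MonoidHom.range_eq_top.2 hsurj, Subgroup.card_top]
    exact Nat.Coprime.pow_left _ hcopA.symm
  obtain ⟨C, hC⟩ := Subgroup.exists_left_complement'_of_coprime hcop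
  have hbij : Function.Bijective (π.comp C.subtype) := by
    refine ⟨(injective_iff_map_eq_one _).2 fun c hc => ?_, fun a => ?_⟩
    · have : (c : ↥P) ∈ C ⊓ π.ker := ⟨c.2, hc⟩
      rw [hC.disjoint.eq_bot, Subgroup.mem_bot] at this
      exact Subtype.ext this
    · obtain ⟨x, rfl⟩ := hsurj a
      obtain ⟨⟨c, m⟩, hcm, -⟩ := Subgroup.IsComplement.existsUnique hC x
      refine ⟨c, ?_⟩
      show π c = π x
      rw [← hcm, map_mul, MonoidHom.mem_ker.1 m.2, mul_one]
  let e : ↥C ≃* A := MulEquiv.ofBijective _ hbij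
  let ρ' : A →* Matrix (Fin n) (Fin n) S :=
    (Units.coeHom _).comp ((((MonoidHom.snd _ _).comp P.subtype).comp C.subtype).comp e.symm.toMonoidHom)
  have hred : ∀ a, φ.mapMatrix (ρ' a) = ρ a := fun a => by
    obtain ⟨c, rfl⟩ := e.surjective a
    have := congrArg Units.val ((c : ↥P).2 : (ρ.toHomUnits.comp (MonoidHom.fst _ _)) (c : ↥P).1 =
      (red.comp (MonoidHom.snd _ _)) (c : ↥P).1)
    show φ.mapMatrix ↑((((e.symm (e c)) : ↥C) : ↥P) : A × (Matrix (Fin n) (Fin n) S)ˣ).2 = ρ (π (c : ↥P))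
    rw [MulEquiv.symm_apply_apply]
    exact this.symm
  refine ⟨ρ', fun a => ⟨hred a, fun hd => ?_⟩⟩
  have h1 : (ρ' a).det ^ p ^ k = 1 :=
    pow_eq_one_of_map_eq_one φ hpF hker hpk (by rw [RingHom.map_det, hred, hd])
  have h2 : (ρ' a).det ^ Nat.card A = 1 := by
    rw [← Matrix.det_pow, ← map_pow, pow_card_eq_one', map_one, Matrix.det_one]
  have := pow_gcd_eq_one.2 ⟨h1, h2⟩
  rwa [(Nat.Coprime.pow_left k hcopA.symm : (p ^ k).Coprime (Nat.card A)).gcd_eq_one, pow_one] at this

end Ring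

/-- A group of order prime to `p` inside `GL n` over a finite field of characteristic `p` embeds in `GL n` over an
algebraically closed field of characteristic zero, keeping determinants one. -/
theorem exists_lift_charZero {F : Type u} [Field F] [Finite F] {p : ℕ} [Fact p.Prime] [CharP F p] {A : Type v}
    [Group A] [Finite A] (hA : ¬ p ∣ Nat.card A) {n : ℕ} (ρ : A →* Matrix (Fin n) (Fin n) F)
    (hρ : Function.Injective ρ) :
    ∃ (L : Type u) (_ : Field L) (_ : CharZero L) (_ : IsAlgClosed L) (ρ' : A →* Matrix (Fin n) (Fin n) L),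
      Function.Injective ρ' ∧ ∀ a, (ρ a).det = 1 → (ρ' a).det = 1 := by
  classical
  haveI : PerfectRing F p := PerfectField.toPerfectRing p
  let R := WittVector p F
  let I : ℕ → Ideal R := fun k => Ideal.span {(p : R) ^ (k + 1)}
  have hI : ∀ k, ∀ x ∈ I k, WittVector.constantCoeff x = 0 := fun k x hx => by
    obtain ⟨c, rfl⟩ := Ideal.mem_span_singleton.1 hx
    rw [map_mul, map_pow, map_natCast, CharP.cast_eq_zero, zero_pow k.succ_ne_zero, zero_mul]
  let φ : ∀ k, R ⧸ I k →+* F := fun k => Ideal.Quotient.lift (I k) WittVector.constantCoeff (hI k)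
  have hsur : ∀ k, Function.Surjective (φ k) := fun k =>
    Ideal.Quotient.lift_surjective_of_surjective (I k) (hI k) (WittVector.constantCoeff_surjective p)
  have hker : ∀ k, ∀ x, φ k x = 0 → ∃ y, x = (p : R ⧸ I k) * y := fun k x hx => by
    obtain ⟨x, rfl⟩ := Ideal.Quotient.mk_surjective x
    have : x ∈ Ideal.span {(p : R)} := (WittVector.mem_span_p_iff_coeff_zero_eq_zero x).2 hx
    obtain ⟨y, rfl⟩ := Ideal.mem_span_singleton.1 this
    exact ⟨Ideal.Quotient.mk _ y, by rw [map_mul, map_natCast]⟩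
  have hpk : ∀ k, (p : R ⧸ I k) ^ (k + 1) = 0 := fun k => by
    rw [← map_natCast (Ideal.Quotient.mk (I k)), ← map_pow, Ideal.Quotient.eq_zero_iff_mem]
    exact Ideal.subset_span rfl
  haveI : ∀ k, Finite (R ⧸ I k) := fun k => by
    have hle : ∀ x ∈ I k, WittVector.truncate (p := p) (k + 1) x = 0 := fun x hx => by
      rw [← RingHom.mem_ker, WittVector.mem_ker_truncate]
      exact (WittVector.mem_span_p_pow_iff_le_coeff_eq_zero x (k + 1)).1 hx
    haveI : Finite (TruncatedWittVector p (k + 1) F) := inferInstanceAs (Finite (Fin (k + 1) → F))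
    refine Finite.of_injective (Ideal.Quotient.lift (I k) (WittVector.truncate (k + 1)) hle)
      ((injective_iff_map_eq_zero _).2 fun x hx => ?_)
    obtain ⟨x, rfl⟩ := Ideal.Quotient.mk_surjective x
    rw [Ideal.Quotient.lift_mk, ← RingHom.mem_ker, WittVector.mem_ker_truncate] at hx
    exact Ideal.Quotient.eq_zero_iff_mem.2 ((WittVector.mem_span_p_pow_iff_le_coeff_eq_zero x (k + 1)).2 hx)
  choose r hr using fun k => exists_lift_ring (φ := φ k) (hsur k) (hker k) (hpk k) hA ρ
  -- the product of all the rings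
  let Pr := ∀ k, R ⧸ I k
  let rP : A →* Matrix (Fin n) (Fin n) Pr :=
    { toFun := fun a => Matrix.of fun i j k => r k a i j
      map_one' := by
        ext i j k
        by_cases h : i = j <;> simp [h, Matrix.one_apply] <;> rfl
      map_mul' := fun a b => by
        ext i j k
        simp only [Matrix.mul_apply, map_mul, Matrix.of_apply]
        exact (map_sum (Pi.evalRingHom (fun k => R ⧸ I k) k) (fun l => (fun k => r k a i l) * fun k => r k b l j) Finset.univ).symm }
  have hrP : ∀ k a, (Pi.evalRingHom (fun k => R ⧸ I k) k).mapMatrix (rP a) = r k a := fun k a => by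
    ext i j; rfl
  let J : Ideal Pr :=
    { carrier := {x | ∃ K, ∀ k, K ≤ k → x k = 0}
      add_mem' := fun {x y} ⟨K, hK⟩ ⟨K', hK'⟩ => ⟨max K K', fun k hk => by
        rw [Pi.add_apply, hK k (le_of_max_le_left hk), hK' k (le_of_max_le_right hk), add_zero]⟩
      zero_mem' := ⟨0, fun _ _ => rfl⟩
      smul_mem' := fun c x ⟨K, hK⟩ => ⟨K, fun k hk => by rw [smul_eq_mul, Pi.mul_apply, hK k hk, mul_zero]⟩ }
  let T : Submonoid Pr :=
    { carrier := {x | ∃ j : ℕ, ∀ k, ∃ u : (R ⧸ I k)ˣ, x k = (p : R ⧸ I k) ^ j * u}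
      mul_mem' := fun {x y} ⟨j, hj⟩ ⟨j', hj'⟩ => ⟨j + j', fun k => by
        obtain ⟨u, hu⟩ := hj k
        obtain ⟨u', hu'⟩ := hj' k
        exact ⟨u * u', by rw [Pi.mul_apply, hu, hu', pow_add, Units.val_mul]; ring⟩⟩
      one_mem' := ⟨0, fun k => ⟨1, by rw [pow_zero, one_mul, Units.val_one]; rfl⟩⟩ }
  have hTJ : Disjoint (J : Set Pr) T := by
    rw [Set.disjoint_left]
    rintro x ⟨K, hK⟩ ⟨j, hj⟩
    obtain ⟨u, hu⟩ := hj (max K j)
    have h0 := hK (max K j) (le_max_left _ _)
    rw [hu, Units.mul_left_eq_zero] at h0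
    rw [← map_natCast (Ideal.Quotient.mk (I (max K j))), ← map_pow, Ideal.Quotient.eq_zero_iff_mem,
      Ideal.mem_span_singleton] at h0
    have := (pow_dvd_pow_iff (WittVector.p_nonzero p F) (WittVector.irreducible p).not_isUnit).1 h0
    omega
  obtain ⟨Q, hQ, hJQ, hQT⟩ := J.exists_le_prime_disjoint T hTJ
  have hout : ∀ x : Pr, (∀ k, IsUnit (x k)) → x ∉ Q := fun x hx hxQ => Set.disjoint_left.1 hQT hxQ
    ⟨0, fun k => ⟨(hx k).unit, by simp⟩⟩
  have hchar : CharZero (Pr ⧸ Q) := by
    refine charZero_of_inj_zero fun m hm => ?_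
    by_contra h0
    obtain ⟨j, c, hc, rfl⟩ := Nat.exists_eq_pow_mul_and_not_dvd h0 p (Fact.out : p.Prime).ne_one
    rw [← map_natCast (Ideal.Quotient.mk Q), Ideal.Quotient.eq_zero_iff_mem] at hm
    refine Set.disjoint_left.1 hQT hm ⟨j, fun k => ?_⟩
    have hu : IsUnit ((c : R ⧸ I k)) := isUnit_of_map_ne_zero (hsur k) (hker k) (hpk k) (by
      rw [map_natCast, Ne, CharP.cast_eq_zero_iff F p]; exact hc)
    exact ⟨hu.unit, by rw [IsUnit.unit_spec, Nat.cast_mul, Nat.cast_pow]; rfl⟩
  haveI := hchar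
  let L := AlgebraicClosure (FractionRing (Pr ⧸ Q))
  let ι : Pr →+* L := (algebraMap (FractionRing (Pr ⧸ Q)) L).comp
    ((algebraMap (Pr ⧸ Q) (FractionRing (Pr ⧸ Q))).comp (Ideal.Quotient.mk Q))
  have hι : ∀ x, ι x = 0 → x ∈ Q := fun x hx => by
    simp only [ι, RingHom.comp_apply] at hx
    rw [map_eq_zero, IsFractionRing.to_map_eq_zero_iff, Ideal.Quotient.eq_zero_iff_mem] at hx
    exact hx
  haveI : CharZero (FractionRing (Pr ⧸ Q)) :=
    charZero_of_injective_algebraMap (IsFractionRing.injective (Pr ⧸ Q) _)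
  haveI : CharZero L := charZero_of_injective_algebraMap (algebraMap (FractionRing (Pr ⧸ Q)) L).injective
  refine ⟨L, inferInstance, inferInstance, inferInstance, ι.mapMatrix.toMonoidHom.comp rP,
    (injective_iff_map_eq_one _).2 fun a ha => ?_, fun a hd => ?_⟩
  · by_contra h1
    have hne : ρ a ≠ 1 := fun h => h1 (hρ (h.trans ρ.map_one.symm))
    obtain ⟨i, j, hij⟩ : ∃ i j, ρ a i j ≠ (1 : Matrix (Fin n) (Fin n) F) i j := by
      by_contra hall
      push Not at hall
      exact hne (Matrix.ext hall)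
    have hm : ι ((rP a - 1) i j) = 0 := by
      have e : ι.mapMatrix (rP a - 1) = 0 := by rw [map_sub, map_one, sub_eq_zero]; exact ha
      exact congrFun (congrFun e i) j
    refine hout _ (fun k => isUnit_of_map_ne_zero (hsur k) (hker k) (hpk k) ?_) (hι _ hm)
    have e := congrFun (congrFun ((congrArg (φ k).mapMatrix (hrP k a)).trans (hr k a).1) i) j
    simp only [RingHom.mapMatrix_apply, Matrix.map_apply, Pi.evalRingHom_apply] at e
    rw [Matrix.sub_apply, Pi.sub_apply, map_sub, e, sub_ne_zero]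
    rw [show (1 : Matrix (Fin n) (Fin n) Pr) i j k = (1 : Matrix (Fin n) (Fin n) (R ⧸ I k)) i j from
      (by by_cases h : i = j <;> simp [h, Matrix.one_apply] <;> rfl)]
    by_cases h : i = j <;> simp [h, Matrix.one_apply] at hij ⊢ <;> exact hij
  · have e : (rP a).det = 1 := funext fun k => by
      show Pi.evalRingHom (fun k => R ⧸ I k) k (rP a).det = 1
      rw [RingHom.map_det, hrP, (hr k a).2 hd]
    simp only [MonoidHom.comp_apply, RingHom.toMonoidHom_eq_coe, MonoidHom.coe_coe]
    rw [← RingHom.map_det, e, map_one]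

end Cfsg.Agent.MaxCl.SLThree.C6
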