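import Mathlib

/-!
# Elements of two-power order normalising a quaternion group

They permute the three cyclic subgroups of order four; up to an element of the quaternion group they fix each of
two generators or realise one of three exchanges.
-/

set_option autoImplicit false

namespace Cfsg.Agent.MaxCl.SLThree.C6

variable {G : Type*} [Group G] {a b : G}

/-- The relations of the quaternion group. -/
structure Quat (a b : G) : Prop where
  four : a ^ 4 = 1
  sq : b ^ 2 = a ^ 2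
  conj : a * b * a = b
  ne : a ^ 2 ≠ 1

namespace Quat

variable (hq : Quat a b)
include hq

theorem bfour : b ^ 4 = 1 := by rw [show 4 = 2 * 2 from rfl, pow_mul, hq.sq, ← pow_mul]; exact hq.four

theorem a_inv : a⁻¹ = a ^ 3 := inv_eq_of_mul_eq_one_right (by rw [← pow_succ']; exact hq.four)

theorem b_inv : b⁻¹ = b ^ 3 := inv_eq_of_mul_eq_one_right (by rw [← pow_succ']; exact hq.bfour)

theorem b_mul_a : b * a = a ^ 3 * b := by
  rw [← hq.a_inv, eq_inv_mul_iff_mul_eq, ← mul_assoc, hq.conj]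

theorem b_mul_pow (i : ℕ) : b * a ^ i = a ^ (3 * i) * b := by
  induction i with
  | zero => simp
  | succ i ih =>
    rw [pow_succ, ← mul_assoc, ih, mul_assoc, hq.b_mul_a, ← mul_assoc, ← pow_add]
    ring_nf

theorem pow_mod (i : ℕ) : a ^ i = a ^ (i % 4) := pow_eq_pow_mod i hq.four

/-- The eight elements. -/
theorem mem_closure {q : G} (h : q ∈ Subgroup.closure ({a, b} : Set G)) :
    ∃ i j : ℕ, i < 4 ∧ j < 2 ∧ q = a ^ i * b ^ j := by
  have hn : ∀ i j : ℕ, ∃ i' j' : ℕ, i' < 4 ∧ j' < 2 ∧ a ^ i * b ^ j = a ^ i' * b ^ j' := by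
    intro i j
    induction j using Nat.strong_induction_on generalizing i with
    | _ j ih =>
      by_cases hj : j < 2
      · exact ⟨i % 4, j, Nat.mod_lt _ (by norm_num), hj, by rw [← hq.pow_mod]⟩
      · obtain ⟨k, rfl⟩ : ∃ k, j = 2 + k := ⟨j - 2, by omega⟩
        obtain ⟨i', j', h1, h2, h3⟩ := ih k (by omega) (i + 2)
        exact ⟨i', j', h1, h2, by rw [← h3, pow_add, pow_add, hq.sq, mul_assoc]⟩
  induction h using Subgroup.closure_induction_left with
  | one => exact ⟨0, 0, by norm_num, by norm_num, by simp⟩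
  | mul_left x hx y _ ih =>
    obtain ⟨i, j, -, -, rfl⟩ := ih
    rcases hx with hx | hx <;> subst x
    · rw [← mul_assoc, ← pow_succ']; exact hn _ _
    · rw [← mul_assoc, hq.b_mul_pow, mul_assoc, ← pow_succ']; exact hn _ _
  | inv_mul_cancel x hx y _ ih =>
    obtain ⟨i, j, -, -, rfl⟩ := ih
    rcases hx with hx | hx <;> subst x
    · rw [hq.a_inv, ← mul_assoc, ← pow_add]; exact hn _ _
    · rw [hq.b_inv, ← mul_assoc, show b ^ 3 * a ^ i = a ^ (27 * i) * b ^ 3 by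
        rw [show b ^ 3 = b * (b * b) by simp [pow_succ, mul_assoc], mul_assoc b, mul_assoc b, hq.b_mul_pow,
          ← mul_assoc b (a ^ (3 * i)), hq.b_mul_pow, ← mul_assoc b, ← mul_assoc b, hq.b_mul_pow]
        simp only [← mul_assoc, ← mul_assoc 3]
        norm_num, mul_assoc, ← pow_add]
      exact hn _ _

/-- An element of order four of the group lies on one of the three axes. -/
theorem axis {q : G} (h : q ∈ Subgroup.closure ({a, b} : Set G)) (h2 : q ^ 2 ≠ 1) :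
    (q = a ∨ q = a ^ 3) ∨ (q = b ∨ q = b ^ 3) ∨ (q = a * b ∨ q = (a * b) ^ 3) := by
  obtain ⟨i, j, hi, hj, rfl⟩ := hq.mem_closure h
  have e3 : b ^ 3 = a ^ 2 * b := by rw [pow_succ, hq.sq]
  have hab : (a * b) ^ 2 = a ^ 2 := by
    rw [pow_two (a * b), ← mul_assoc, hq.conj, ← pow_two b, hq.sq]
  have eab : (a * b) ^ 3 = a ^ 3 * b := by rw [pow_succ, hab, ← mul_assoc, ← pow_succ]
  obtain rfl | rfl : j = 0 ∨ j = 1 := by omega
  · obtain rfl | rfl | rfl | rfl : i = 0 ∨ i = 1 ∨ i = 2 ∨ i = 3 := by omega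
    · simp at h2
    · simp
    · exact absurd (by rw [pow_zero, mul_one, ← pow_mul]; exact hq.four) h2
    · simp
  · obtain rfl | rfl | rfl | rfl : i = 0 ∨ i = 1 ∨ i = 2 ∨ i = 3 := by omega
    · simp
    · simp
    · simp [e3]
    · simp [eab]

/-- Multiplying by an element of the group fixes the signs of the two images. -/
theorem fix_signs {g P Q : G} (hP : g * a * g⁻¹ = P ∨ g * a * g⁻¹ = P ^ 3) (hQ : g * b * g⁻¹ = Q ∨ g * b * g⁻¹ = Q ^ 3)
    (hP4 : P ^ 4 = 1) (hQ4 : Q ^ 4 = 1) :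
    ∃ q ∈ Subgroup.closure ({a, b} : Set G), g * q * a * (g * q)⁻¹ = P ∧ g * q * b * (g * q)⁻¹ = Q := by
  have ha : a ∈ Subgroup.closure ({a, b} : Set G) := Subgroup.subset_closure (Set.mem_insert _ _)
  have hb : b ∈ Subgroup.closure ({a, b} : Set G) := Subgroup.subset_closure (Set.mem_insert_of_mem _ rfl)
  have eA : b * a * b⁻¹ = a ^ 3 := by rw [hq.b_mul_a, mul_assoc, mul_inv_cancel, mul_one]
  have eB : a * b * a⁻¹ = b ^ 3 := by
    rw [hq.a_inv, mul_assoc, hq.b_mul_pow, ← mul_assoc, ← pow_succ', hq.pow_mod (3 * 3 + 1), pow_succ b 2, hq.sq]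
  have tr : ∀ q x : G, g * q * x * (g * q)⁻¹ = g * (q * x * q⁻¹) * g⁻¹ := fun q x => by group
  have cube : ∀ x : G, g * x ^ 3 * g⁻¹ = (g * x * g⁻¹) ^ 3 := fun x => conj_pow.symm
  have nine : ∀ x : G, x ^ 4 = 1 → (x ^ 3) ^ 3 = x := fun x hx => by
    rw [← pow_mul, show 3 * 3 = 4 * 2 + 1 from rfl, pow_add, pow_mul, hx, one_pow, one_mul, pow_one]
  rcases hP with hP | hP <;> rcases hQ with hQ | hQ
  · exact ⟨1, one_mem _, by simp [hP], by simp [hQ]⟩
  · refine ⟨a, ha, ?_, ?_⟩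
    · rw [tr, mul_inv_cancel_right, hP]
    · rw [tr, eB, cube, hQ, nine Q hQ4]
  · refine ⟨b, hb, ?_, ?_⟩
    · rw [tr, eA, cube, hP, nine P hP4]
    · rw [tr, mul_inv_cancel_right, hQ]
  · refine ⟨a * b, mul_mem ha hb, ?_, ?_⟩
    · rw [tr, show a * b * a * (a * b)⁻¹ = a * (b * a * b⁻¹) * a⁻¹ by group, eA,
        show a * a ^ 3 * a⁻¹ = a ^ 3 by group, cube, hP, nine P hP4]
    · rw [tr, show a * b * b * (a * b)⁻¹ = a * b * a⁻¹ by group, eB, cube, hQ, nine Q hQ4]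

/-- Normalisers of the group of two-power order: after a factor from the group, both generators are fixed or one
of three exchanges occurs. -/
theorem cases_of_normal {g : G} {k : ℕ} (hg : g ^ 2 ^ k = 1)
    (hga : g * a * g⁻¹ ∈ Subgroup.closure ({a, b} : Set G))
    (hgb : g * b * g⁻¹ ∈ Subgroup.closure ({a, b} : Set G)) :
    ∃ q ∈ Subgroup.closure ({a, b} : Set G), ∃ P Q : G,
      g * q * a * (g * q)⁻¹ = P ∧ g * q * b * (g * q)⁻¹ = Q ∧
      ((P = a ∧ Q = b) ∨ (P = b ∧ Q = a) ∨ (P = a * b ∧ Q = b ^ 3) ∨ (P = a ^ 3 ∧ Q = a * b)) := by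
  have h4 := hq.four
  have hb4 := hq.bfour
  have hab : (a * b) ^ 2 = a ^ 2 := by
    rw [pow_two (a * b), ← mul_assoc, hq.conj, ← pow_two b, hq.sq]
  have hc4 : (a * b) ^ 4 = 1 := by rw [show 4 = 2 * 2 from rfl, pow_mul, hab, ← pow_mul]; exact h4
  have nine : ∀ x : G, x ^ 4 = 1 → (x ^ 3) ^ 3 = x := fun x hx => by
    rw [← pow_mul, show 3 * 3 = 4 * 2 + 1 from rfl, pow_add, pow_mul, hx, one_pow, one_mul, pow_one]
  have tw : ∀ x y : G, x ^ 4 = 1 → (y = x ∨ y = x ^ 3) → (y = x ^ 3 ∨ y = (x ^ 3) ^ 3) := fun x y hx h => by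
    rw [nine x hx]; exact h.symm
  have fa : (g * a * g⁻¹) ^ 2 ≠ 1 := fun h => hq.ne (by
    rw [conj_pow] at h
    exact (conj_eq_one_iff.1 h))
  have fb : (g * b * g⁻¹) ^ 2 ≠ 1 := fun h => hq.ne (by
    rw [conj_pow] at h
    rw [← hq.sq]
    exact (conj_eq_one_iff.1 h))
  have hdist : ∀ x : G, x ^ 4 = 1 → (g * a * g⁻¹ = x ∨ g * a * g⁻¹ = x ^ 3) →
      ¬ (g * b * g⁻¹ = x ∨ g * b * g⁻¹ = x ^ 3) := by
    intro x hx h1 h2
    have hc : Commute (g * a * g⁻¹) (g * b * g⁻¹) := by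
      rcases h1 with h1 | h1 <;> rcases h2 with h2 | h2 <;> rw [h1, h2] <;>
        first | exact Commute.refl _ | exact Commute.pow_self _ _ | exact Commute.self_pow _ _
    have hc' : a * b = b * a := by
      have := hc.eq
      rw [conj_mul, conj_mul] at this
      exact mul_left_cancel (mul_right_cancel this)
    refine hq.ne ?_
    have e := hq.conj
    rw [hc', mul_assoc, ← pow_two] at e
    exact mul_left_cancel (e.trans (mul_one b).symm)
  -- a cyclic permutation of the axes is impossible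
  have hcyc : ∀ P Q : G, (g * a * g⁻¹ = P ∨ g * a * g⁻¹ = P ^ 3) → (g * b * g⁻¹ = Q ∨ g * b * g⁻¹ = Q ^ 3) →
      P ∉ Subgroup.zpowers a → P ^ 4 = 1 →
      (g ^ 3 * a * (g ^ 3)⁻¹ ∈ Subgroup.zpowers a) → False := by
    intro P Q hP _ hPa hP4 h3
    have h3' : g ^ 3 ∈ Subgroup.normalizer (Subgroup.zpowers a : Set G) := by
      rw [Subgroup.mem_normalizer_iff_map_conj_eq, MonoidHom.map_zpowers]
      have hle : Subgroup.zpowers (g ^ 3 * a * (g ^ 3)⁻¹) ≤ Subgroup.zpowers a := Subgroup.zpowers_le.2 h3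
      have hfin : IsOfFinOrder a := isOfFinOrder_iff_pow_eq_one.2 ⟨4, by norm_num, h4⟩
      haveI : Finite (Subgroup.zpowers a) := (finite_zpowers.2 hfin).to_subtype
      refine Subgroup.eq_of_le_of_card_ge hle (le_of_eq ?_)
      rw [Nat.card_zpowers, Nat.card_zpowers]
      exact (orderOf_injective (MulAut.conj (g ^ 3)).toMonoidHom (MulAut.conj (g ^ 3)).injective a).symm
    have hgN : g ∈ Subgroup.normalizer (Subgroup.zpowers a : Set G) := by
      have hco : Nat.Coprime 3 (2 ^ k) := Nat.Coprime.pow_right k (by norm_num)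
      obtain ⟨m, hm⟩ := exists_pow_eq_self_of_coprime (x := g)
        (Nat.Coprime.coprime_dvd_right (orderOf_dvd_of_pow_eq_one hg) hco)
      rw [← hm]
      exact pow_mem h3' m
    have := (Subgroup.mem_normalizer_iff.1 hgN a).1 (Subgroup.mem_zpowers a)
    rcases hP with h | h <;> rw [h] at this
    · exact hPa this
    · exact hPa (by have := pow_mem this 3; rwa [nine P hP4] at this)
  have bna : b ∉ Subgroup.zpowers a := by
    intro h
    refine hq.ne ?_
    obtain ⟨m, hm⟩ := Subgroup.mem_zpowers_iff.1 h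
    have hc : a * b = b * a := by rw [← hm]; exact (Commute.self_zpow a m).eq
    have e := hq.conj
    rw [hc, mul_assoc, ← pow_two] at e
    exact mul_left_cancel (e.trans (mul_one b).symm)
  have abna : a * b ∉ Subgroup.zpowers a := fun h => bna (by
    have := mul_mem (inv_mem (Subgroup.mem_zpowers a)) h
    rwa [inv_mul_cancel_left] at this)
  have conj3 : ∀ x : G, g ^ 3 * x * (g ^ 3)⁻¹ = g * (g * (g * x * g⁻¹) * g⁻¹) * g⁻¹ := fun x => by
    simp [pow_succ, mul_assoc]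
  -- the images of the axes
  have img : ∀ x y : G, x ^ 4 = 1 → y ^ 4 = 1 → (g * x * g⁻¹ = y ∨ g * x * g⁻¹ = y ^ 3) → ∀ z : G,
      (z = x ∨ z = x ^ 3) → (g * z * g⁻¹ = y ∨ g * z * g⁻¹ = y ^ 3) := by
    rintro x y hx hy h z (rfl | rfl)
    · exact h
    · rw [← conj_pow]
      rcases h with h | h <;> rw [h]
      · exact Or.inr rfl
      · exact Or.inl (nine y hy)
  have imgc : ∀ P Q : G, (g * a * g⁻¹ = P ∨ g * a * g⁻¹ = P ^ 3) → (g * b * g⁻¹ = Q ∨ g * b * g⁻¹ = Q ^ 3) →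
      g * (a * b) * g⁻¹ = P * Q ∨ g * (a * b) * g⁻¹ = P ^ 3 * Q ∨ g * (a * b) * g⁻¹ = P * Q ^ 3 ∨
        g * (a * b) * g⁻¹ = P ^ 3 * Q ^ 3 := by
    intro P Q hP hQ
    have e : g * (a * b) * g⁻¹ = (g * a * g⁻¹) * (g * b * g⁻¹) := conj_mul.symm
    rcases hP with hP | hP <;> rcases hQ with hQ | hQ <;> simp [e, hP, hQ]
  have za : ∀ x : G, (x = a ∨ x = a ^ 3) → x ∈ Subgroup.zpowers a := by
    rintro x (rfl | rfl)
    · exact Subgroup.mem_zpowers _
    · exact Subgroup.npow_mem_zpowers _ _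
  rcases hq.axis hga fa with hA | hA | hA <;> rcases hq.axis hgb fb with hB | hB | hB
  · exact absurd hB (hdist a h4 hA)
  · obtain ⟨q, hq', e1, e2⟩ := hq.fix_signs hA hB h4 hb4
    exact ⟨q, hq', _, _, e1, e2, Or.inl ⟨rfl, rfl⟩⟩
  · obtain ⟨q, hq', e1, e2⟩ := hq.fix_signs (tw a _ h4 hA) hB (by rw [← pow_mul, pow_mul', h4, one_pow]) hc4
    exact ⟨q, hq', _, _, e1, e2, Or.inr (Or.inr (Or.inr ⟨rfl, rfl⟩))⟩
  · obtain ⟨q, hq', e1, e2⟩ := hq.fix_signs hA hB hb4 h4
    exact ⟨q, hq', _, _, e1, e2, Or.inr (Or.inl ⟨rfl, rfl⟩)⟩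
  · exact absurd hB (hdist b hb4 hA)
  · -- `a → b → ab → a`
    refine (hcyc b (a * b) hA hB bna hb4 ?_).elim
    rw [conj3]
    have m : (g * (g * a * g⁻¹) * g⁻¹ = a * b ∨ g * (g * a * g⁻¹) * g⁻¹ = (a * b) ^ 3) :=
      img b (a * b) hb4 hc4 hB _ hA
    have hmem := imgc b (a * b) hA hB
    have p1 : b * (a * b) = a := by
      rw [← mul_assoc, hq.b_mul_a, mul_assoc, ← pow_two b, hq.sq, ← pow_add, hq.pow_mod, pow_one]
    have p3 : (a * b) ^ 3 = a ^ 3 * b := by rw [pow_succ, hab, ← mul_assoc, ← pow_succ]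
    have q3 : b ^ 3 = a ^ 2 * b := by rw [pow_succ, hq.sq]
    have hin : g * (a * b) * g⁻¹ ∈ Subgroup.zpowers a := by
      rcases hmem with h | h | h | h <;> rw [h]
      · rw [p1]; exact Subgroup.mem_zpowers _
      · rw [q3, mul_assoc, p1]; exact mul_mem (Subgroup.npow_mem_zpowers _ _) (Subgroup.mem_zpowers _)
      · rw [p3, ← mul_assoc, hq.b_mul_pow, mul_assoc, ← pow_two b, hq.sq]
        exact mul_mem (Subgroup.npow_mem_zpowers _ _) (Subgroup.npow_mem_zpowers _ _)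
      · rw [p3, q3, mul_assoc, ← mul_assoc b, hq.b_mul_pow, mul_assoc, ← pow_two b, hq.sq]
        exact mul_mem (Subgroup.npow_mem_zpowers _ _)
          (mul_mem (Subgroup.npow_mem_zpowers _ _) (Subgroup.npow_mem_zpowers _ _))
    rcases m with m | m <;> rw [m]
    · exact hin
    · rw [← conj_pow]; exact pow_mem hin _
  · -- `a → ab → b → a`
    refine (hcyc (a * b) a hA hB abna hc4 ?_).elim
    rw [conj3]
    have hmem := imgc (a * b) a hA hB
    have hbz : ∀ x : G, g * (a * b) * g⁻¹ = x → (x = b ∨ x = b ^ 3) → g * (g * a * g⁻¹) * g⁻¹ = b ∨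
        g * (g * a * g⁻¹) * g⁻¹ = b ^ 3 := fun x hx h => img (a * b) b hc4 hb4 (by rw [hx]; exact h) _ hA
    have p1 : a * b * a = b := hq.conj
    have p3 : (a * b) ^ 3 = a ^ 3 * b := by rw [pow_succ, hab, ← mul_assoc, ← pow_succ]
    have q3 : b ^ 3 = a ^ 2 * b := by rw [pow_succ, hq.sq]
    have m : g * (g * a * g⁻¹) * g⁻¹ = b ∨ g * (g * a * g⁻¹) * g⁻¹ = b ^ 3 := by
      rcases hmem with h | h | h | h
      · exact hbz _ h (Or.inl p1)
      · exact hbz _ h (Or.inr (by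
          rw [p3, mul_assoc, hq.b_mul_a, ← mul_assoc, ← pow_add, hq.pow_mod, q3]))
      · exact hbz _ h (Or.inr (by
          rw [mul_assoc, hq.b_mul_pow, ← mul_assoc, ← pow_succ', hq.pow_mod, q3]))
      · exact hbz _ h (Or.inl (by
          rw [p3, mul_assoc, hq.b_mul_pow, ← mul_assoc, ← pow_add, hq.pow_mod]; simp))
    have n := img b a hb4 h4 hB _ m
    exact za _ n
  · obtain ⟨q, hq', e1, e2⟩ := hq.fix_signs hA (tw b _ hb4 hB) hc4 (by rw [← pow_mul, pow_mul', hb4, one_pow])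
    exact ⟨q, hq', _, _, e1, e2, Or.inr (Or.inr (Or.inl ⟨rfl, rfl⟩))⟩
  · exact absurd hB (hdist _ hc4 hA)

end Quat

end Cfsg.Agent.MaxCl.SLThree.C6
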