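import Cfsg.Agent.Lib.MaxCl.SLThree.C6.Adjoint
import Cfsg.Agent.Lib.MaxCl.SLThree.C6.Lift
import Cfsg.Agent.Lib.MaxCl.SLThree.C6.Quat

/-!
# In characteristic zero: the quaternion group is its own two-part of its normaliser

A lift sends the standard generators to the standard matrices; an element of two-power order normalising the
quaternion group would have a trace that is not an algebraic integer.
-/

set_option autoImplicit false
set_option linter.style.haveILetI false
set_option linter.unusedSectionVars false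

namespace Cfsg.Agent.MaxCl.SLThree.C6

open Matrix

universe u

section Integral

variable {L : Type*} [Field L] [CharZero L]

theorem isIntegral_root {v : L} {n : ℕ} (hn : 0 < n) (h : v ^ n = 1) : IsIntegral ℤ v :=
  IsIntegral.of_pow hn (h ▸ isIntegral_one)

theorem not_isIntegral_half : ¬ IsIntegral ℤ ((2 : L)⁻¹) := by
  intro h
  have h' : IsIntegral ℤ (algebraMap ℚ L (2⁻¹ : ℚ)) := by simpa [map_inv₀] using h
  rw [isIntegral_algebraMap_iff (algebraMap ℚ L).injective, IsIntegrallyClosed.isIntegral_iff] at h'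
  obtain ⟨z, hz⟩ := h'
  have h3 : ((2 * z : ℤ) : ℚ) = ((1 : ℤ) : ℚ) := by push_cast; simp at hz; rw [hz]; norm_num
  have := Int.cast_injective h3
  omega

/-- A root of unity congruent to one modulo four is one. -/
theorem eq_one_of_quarter {v : L} {n : ℕ} (hn : 0 < n) (hv : v ^ n = 1) (h : IsIntegral ℤ ((v - 1) / 4)) :
    v = 1 := by
  by_contra hne
  have hfin : IsOfFinOrder v := isOfFinOrder_iff_pow_eq_one.2 ⟨n, hn, hv⟩
  have hm0 : orderOf v ≠ 1 := fun h1 => hne (orderOf_eq_one_iff.1 h1)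
  obtain ⟨l, hl, hdvd⟩ := Nat.exists_prime_and_dvd hm0
  obtain ⟨e, he⟩ := hdvd
  have he0 : e ≠ 0 := by
    rintro rfl
    exact hfin.orderOf_pos.ne' (by rw [he, mul_zero])
  have hw : IsPrimitiveRoot (v ^ e) l := by
    rw [IsPrimitiveRoot.iff_orderOf, orderOf_pow' v he0, he, Nat.gcd_mul_left_left,
      Nat.mul_div_cancel _ (Nat.pos_of_ne_zero he0)]
  have hvint := isIntegral_root hn hv
  have hdiv : ∀ i : ℕ, IsIntegral ℤ ((1 - (v ^ e) ^ i) / 4) := by
    intro i
    rw [← pow_mul, show (1 : L) - v ^ (e * i) = -((v - 1) * ∑ j ∈ Finset.range (e * i), v ^ j) by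
      rw [mul_geom_sum, neg_sub], neg_div, mul_div_right_comm]
    exact (h.mul (IsIntegral.sum _ fun j _ => hvint.pow j)).neg
  obtain ⟨d, rfl⟩ : ∃ d, l = d + 1 := ⟨l - 1, by have := hl.one_lt; omega⟩
  have hprod := hw.prod_one_sub_pow_eq_order
  have hint : IsIntegral ℤ (∏ i ∈ Finset.range d, (1 - (v ^ e) ^ (i + 1)) / 4) :=
    IsIntegral.prod _ fun i _ => hdiv _
  rw [Finset.prod_div_distrib, hprod, Finset.prod_const, Finset.card_range] at hint
  have h' : IsIntegral ℤ (algebraMap ℚ L (((d : ℚ) + 1) / 4 ^ d)) := by simpa using hint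
  rw [isIntegral_algebraMap_iff (algebraMap ℚ L).injective, IsIntegrallyClosed.isIntegral_iff] at h'
  obtain ⟨z, hz⟩ := h'
  simp at hz
  have hpos : (0 : ℚ) < ((d : ℚ) + 1) / 4 ^ d := by positivity
  have hd1 : 1 ≤ d := by have := hl.two_le; omega
  have hlt : ((d : ℚ) + 1) / 4 ^ d < 1 := by
    rw [div_lt_one (by positivity)]
    have h1 : d + 1 < 4 ^ d := by
      clear hpos hz hint hprod hdiv hw he hl h
      induction d, hd1 using Nat.le_induction with
      | base => norm_num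
      | succ k _ ih => rw [pow_succ]; omega
    exact_mod_cast h1
  rw [← hz] at hpos hlt
  have h2 : (0 : ℤ) < z := by exact_mod_cast hpos
  have h3 : z < 1 := by exact_mod_cast hlt
  omega

/-- The trace of a matrix of finite order is an algebraic integer. -/
theorem isIntegral_trace [IsAlgClosed L] {n : ℕ} (hn : 0 < n) {M : Matrix (Fin 3) (Fin 3) L} (hM : M ^ n = 1) :
    IsIntegral ℤ M.trace := by
  rw [Matrix.trace_eq_sum_roots_charpoly]
  refine IsIntegral.multiset_sum fun μ hμ => ?_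
  refine isIntegral_root hn ?_
  have h1 : μ ∈ spectrum L M := by
    rw [Matrix.mem_spectrum_iff_isRoot_charpoly]
    exact Polynomial.isRoot_of_mem_roots hμ
  have h2 := spectrum.pow_mem_pow M n h1
  rw [hM, spectrum.one_eq] at h2
  exact h2

/-- Eigenvalues of a matrix of finite order. -/
theorem eigen_pow {n : ℕ} {M : Matrix (Fin 3) (Fin 3) L} (hM : M ^ n = 1) {v : Fin 3 → L} (hv : v ≠ 0) {μ : L}
    (h : M *ᵥ v = μ • v) : μ ^ n = 1 := by
  have key : ∀ i : ℕ, M ^ i *ᵥ v = μ ^ i • v := fun i => by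
    induction i with
    | zero => simp
    | succ i ih => rw [pow_succ, ← Matrix.mulVec_mulVec, h, Matrix.mulVec_smul, ih, smul_smul, ← pow_succ']
  have := key n
  rw [hM, Matrix.one_mulVec] at this
  exact smul_left_injective L hv (this.symm.trans (one_smul L v).symm)

/-- The trace of an idempotent. -/
theorem trace_idem {P : Matrix (Fin 3) (Fin 3) L} (hP : P * P = P) :
    ∃ n : ℕ, n ≤ 3 ∧ P.trace = n ∧ (n = 0 → P = 0) ∧ (n = 3 → P = 1) := by
  set f := Matrix.toLinAlgEquiv' (R := L) P with hf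
  have hproj : LinearMap.IsProj (LinearMap.range f) f := by
    refine ⟨fun v => LinearMap.mem_range_self f v, ?_⟩
    rintro _ ⟨v, rfl⟩
    rw [← Module.End.mul_apply, hf, ← map_mul, hP]
  refine ⟨Module.finrank L (LinearMap.range f), ?_, ?_, fun h0 => ?_, fun h3 => ?_⟩
  · exact (Submodule.finrank_le _).trans (by simp)
  · rw [← hproj.trace, hf]
    exact (Matrix.trace_toLin'_eq P).symm
  · have hb : LinearMap.range f = ⊥ := Submodule.finrank_eq_zero.1 h0
    rw [LinearMap.range_eq_bot] at hb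
    exact (Matrix.toLinAlgEquiv' (R := L) (n := Fin 3)).injective (by rw [← hf, hb, map_zero])
  · have ht : LinearMap.range f = ⊤ := Submodule.eq_top_of_finrank_eq (by simp [h3])
    refine (Matrix.toLinAlgEquiv' (R := L) (n := Fin 3)).injective ?_
    rw [← hf, map_one]
    exact LinearMap.ext fun v => hproj.map_id v (ht ▸ Submodule.mem_top)

end Integral

variable {F : Type u} [Field F] [Finite F] {ω : F} {hω : IsPrimitiveRoot ω 3} {H : Subgroup (GL (Fin 3) F)}
  {p : ℕ} (h : Setup hω H p)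

/-- The generators inside `H`. -/
def Setup.x : H := ⟨gX hω, h.mX⟩

/-- The generators inside `H`. -/
def Setup.y : H := ⟨gY F, h.mY⟩

/-- The generators inside `H`. -/
def Setup.a : H := ⟨gA hω, h.mA⟩

/-- The generators inside `H`. -/
def Setup.b : H := ⟨gB hω, h.mB⟩

/-- The scalar of order three inside `H`. -/
def Setup.z : H := h.x * h.y * h.x⁻¹ * h.y⁻¹

include h

theorem Setup.coe_z : ((h.z : GL (Fin 3) F) : Matrix (Fin 3) (Fin 3) F) = ω • 1 := coe_gZ hω

theorem Setup.z_comm (g : H) : g * h.z = h.z * g := by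
  refine Subtype.ext (Units.ext ?_)
  simp [h.coe_z]

theorem Setup.z_cube : h.z ^ 3 = 1 := by
  refine Subtype.ext (Units.ext ?_)
  simp [h.coe_z, smul_pow, hω.pow_eq_one]

theorem Setup.z_ne : h.z ≠ 1 := by
  intro e
  have := congrArg (fun g : H => ((g : GL (Fin 3) F) : Matrix (Fin 3) (Fin 3) F) 0 0) e
  simp [h.coe_z] at this
  exact hω.ne_one (by norm_num) this

theorem Setup.quat : Quat h.a h.b := by
  have hne : (A ω * A ω) ≠ 1 := fun e => by
    have := congrFun (congrFun e 0) 0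
    rw [A_sq hω] at this
    simp at this
    have h2 : ((2 : ℕ) : F) = 0 := by push_cast; linear_combination -this
    haveI := h.charP
    rw [CharP.cast_eq_zero_iff F p] at h2
    have := Nat.le_of_dvd (by norm_num) h2
    have := h.five
    omega
  refine ⟨Subtype.ext (gA_four hω), Subtype.ext (Units.ext ?_), Subtype.ext (Units.ext ?_), fun e => hne ?_⟩
  · simp [Setup.a, Setup.b, pow_two, B_sq hω, A_sq hω]
  · simp [Setup.a, Setup.b, A_B hω]
  · have := congrArg (fun g : H => ((g : GL (Fin 3) F) : Matrix (Fin 3) (Fin 3) F)) e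
    simpa [Setup.a, pow_two] using this

theorem Setup.sl_det (g : H) : ((g : GL (Fin 3) F) : Matrix (Fin 3) (Fin 3) F).det = 1 := by
  rw [← Matrix.GeneralLinearGroup.val_det_apply, MonoidHom.mem_ker.1 (h.sl g.2), Units.val_one]

/-- A lift with the standard values on the generators. -/
theorem Setup.exists_rep :
    ∃ (L : Type u) (_ : Field L) (_ : CharZero L) (_ : IsAlgClosed L) (ζ : L) (_ : IsPrimitiveRoot ζ 3)
      (ρ : H →* Matrix (Fin 3) (Fin 3) L), Function.Injective ρ ∧ ρ h.x = X ζ ∧ ρ h.y = Y L ∧ ρ h.a = A ζ ∧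
        ρ h.b = B ζ := by
  haveI : Fact p.Prime := ⟨h.prime⟩
  haveI := h.charP
  obtain ⟨L, _, _, _, ρ, hinj, hdet⟩ := exists_lift_charZero h.not_dvd_card
    ((Units.coeHom (Matrix (Fin 3) (Fin 3) F)).comp H.subtype)
    (fun g g' e => Subtype.ext (Units.ext e))
  have hd : ∀ g, (ρ g).det = 1 := fun g => hdet g (h.sl_det g)
  obtain ⟨w, hw⟩ := IsAlgClosed.exists_pow_nat_eq (-3 : L) (n := 2) (by norm_num)
  obtain ⟨θ, hθ⟩ : ∃ θ : L, θ = (-1 + w) / 2 := ⟨_, rfl⟩
  have hθ3 : θ ^ 3 = 1 := by rw [hθ]; field_simp; grind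
  have hθ' : IsPrimitiveRoot θ 3 := by
    rw [IsPrimitiveRoot.iff_orderOf, orderOf_eq_prime hθ3]
    intro h1
    rw [hθ] at h1
    field_simp at h1
    have h12 : (12 : L) = 0 := by linear_combination hw - (w + 3) * h1
    norm_num at h12
  have hx3 : h.x ^ 3 = 1 := Subtype.ext (gX_cube hω)
  have hy3 : h.y ^ 3 = 1 := Subtype.ext (gY_cube)
  have hR3 : ρ h.x ^ 3 = 1 := by rw [← map_pow, hx3, map_one]
  have hS3 : ρ h.y ^ 3 = 1 := by rw [← map_pow, hy3, map_one]
  have hZ3 : ρ h.z ^ 3 = 1 := by rw [← map_pow, h.z_cube, map_one]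
  have hRS : ρ h.x * ρ h.y = ρ h.z * (ρ h.y * ρ h.x) := by
    rw [← map_mul, ← map_mul, ← map_mul]; congr 1; simp [Setup.z, mul_assoc]
  have hZR : ρ h.x * ρ h.z = ρ h.z * ρ h.x := by rw [← map_mul, ← map_mul, h.z_comm]
  have hZS : ρ h.y * ρ h.z = ρ h.z * ρ h.y := by rw [← map_mul, ← map_mul, h.z_comm]
  obtain ⟨R, hR⟩ : ∃ R, R = ρ h.x := ⟨_, rfl⟩
  obtain ⟨S, hS⟩ : ∃ S, S = ρ h.y := ⟨_, rfl⟩
  obtain ⟨Z, hZ⟩ : ∃ Z, Z = ρ h.z := ⟨_, rfl⟩
  simp only [← hR, ← hS, ← hZ] at hR3 hS3 hZ3 hRS hZR hZS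
  -- `Z` is scalar
  obtain ⟨e, ζ, hζ3, hζ1, hee, he0, heR, heS, hZe⟩ : ∃ (e : Matrix (Fin 3) (Fin 3) L) (ζ : L), ζ ^ 3 = 1 ∧ ζ ≠ 1 ∧
      e * e = e ∧ e ≠ 0 ∧ R * e = e * R ∧ S * e = e * S ∧ Z * e = ζ • e := by
    have h3 : (3 : L) ≠ 0 := by norm_num
    have hk : ∀ k : ℕ, ∀ e, e = (3 : L)⁻¹ • (1 + θ ^ k • Z + θ ^ (2 * k) • (Z * Z)) →
        Z * e = θ ^ (2 * k) • e ∧ e * e = e ∧ R * e = e * R ∧ S * e = e * S := by
      rintro k e rfl
      have e1 : θ ^ (2 * k) * θ ^ k = 1 := by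
        rw [← pow_add, show 2 * k + k = 3 * k by ring, pow_mul, hθ3, one_pow]
      have e2 : θ ^ (2 * k) * θ ^ (2 * k) = θ ^ k := by
        rw [← pow_add, show 2 * k + 2 * k = k + 3 * k by ring, pow_add, pow_mul, hθ3, one_pow, mul_one]
      have e3 : Z * (Z * Z) = 1 := by rw [← pow_three, hZ3]
      have hze : Z * ((3 : L)⁻¹ • (1 + θ ^ k • Z + θ ^ (2 * k) • (Z * Z))) =
          θ ^ (2 * k) • ((3 : L)⁻¹ • (1 + θ ^ k • Z + θ ^ (2 * k) • (Z * Z))) := by
        simp only [mul_add, mul_smul_comm, mul_one, e3, smul_add, smul_smul]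
        rw [show (3 : L)⁻¹ * θ ^ (2 * k) = θ ^ (2 * k) * 3⁻¹ by ring]
        match_scalars <;> grind
      refine ⟨hze, ?_, ?_, ?_⟩
      · generalize hE : (3 : L)⁻¹ • (1 + θ ^ k • Z + θ ^ (2 * k) • (Z * Z)) = E at hze ⊢
        conv_lhs => enter [1]; rw [← hE]
        simp only [smul_mul_assoc, add_mul, one_mul, mul_assoc, hze, mul_smul_comm, smul_smul, ← add_smul]
        match_scalars
        field_simp
        grind
      · simp only [mul_smul_comm, smul_mul_assoc, mul_add, add_mul, mul_one, one_mul, hZR, ← mul_assoc]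
        simp only [mul_assoc, hZR]
      · simp only [mul_smul_comm, smul_mul_assoc, mul_add, add_mul, mul_one, one_mul, hZS, ← mul_assoc]
        simp only [mul_assoc, hZS]
    by_contra hno
    push Not at hno
    have hz : ∀ k : ℕ, k = 1 ∨ k = 2 → (3 : L)⁻¹ • (1 + θ ^ k • Z + θ ^ (2 * k) • (Z * Z)) = 0 := by
      intro k hk'
      by_contra h0
      obtain ⟨a1, a2, a3, a4⟩ := hk k _ rfl
      refine hno _ (θ ^ (2 * k)) ?_ ?_ a2 h0 a3 a4 a1
      · rw [← pow_mul, mul_comm (2 * k), pow_mul, hθ3, one_pow]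
      · rcases hk' with rfl | rfl
        · exact hθ'.pow_ne_one_of_pos_of_lt (by norm_num) (by norm_num)
        · rw [show 2 * 2 = 3 + 1 by rfl, pow_succ, hθ3, one_mul]; exact hθ'.ne_one (by norm_num)
    have hs1 := sum_eq_zero hθ'
    have hz0 : (3 : L)⁻¹ • (1 + Z + Z * Z) = 1 := by
      have a1 := hz 1 (Or.inl rfl)
      have a2 := hz 2 (Or.inr rfl)
      have : (3 : L)⁻¹ • (1 + Z + Z * Z) + (3 : L)⁻¹ • (1 + θ ^ 1 • Z + θ ^ (2 * 1) • (Z * Z)) +
          (3 : L)⁻¹ • (1 + θ ^ 2 • Z + θ ^ (2 * 2) • (Z * Z)) = 1 := by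
        match_scalars <;> field_simp <;> grind
      rwa [a1, a2, add_zero, add_zero] at this
    have hZ1 : Z = 1 := by
      calc Z = Z * ((3 : L)⁻¹ • (1 + Z + Z * Z)) := by rw [hz0, mul_one]
        _ = (3 : L)⁻¹ • (Z + Z * Z + 1) := by
          rw [mul_smul_comm, mul_add, mul_add, mul_one, ← pow_three, hZ3]
        _ = (3 : L)⁻¹ • (1 + Z + Z * Z) := by congr 1; abel
        _ = 1 := hz0
    exact h.z_ne (hinj (by rw [← hZ, hZ1, map_one]))
  have hζ' : IsPrimitiveRoot ζ 3 := by rw [IsPrimitiveRoot.iff_orderOf, orderOf_eq_prime hζ3 hζ1]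
  have hcyc : ∀ (U : Matrix (Fin 3) (Fin 3) L) (c : L), c ≠ 1 → U * S = c • (S * U) → U.trace = 0 := by
    intro U c hc hU
    have e1 : U = c • (S * U * (S * S)) := by
      rw [← smul_mul_assoc, ← hU, mul_assoc, ← pow_three, hS3, mul_one]
    have e2 := congrArg Matrix.trace e1
    rw [Matrix.trace_smul, Matrix.trace_mul_comm (S * U), ← mul_assoc (S * S) S U, mul_assoc S S S, ← pow_three, hS3, one_mul,
      smul_eq_mul] at e2
    exact (mul_eq_zero.1 (by linear_combination e2 : (1 - c) * U.trace = 0)).resolve_left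
      (sub_ne_zero.2 (Ne.symm hc))
  have hRe : R * e * S = ζ • (S * (R * e)) := by
    have hsr : e * (S * R) = S * (R * e) := by rw [← mul_assoc, ← heS, mul_assoc, ← heR]
    calc R * e * S = R * (e * S) := mul_assoc _ _ _
      _ = R * S * e := by rw [← heS, mul_assoc]
      _ = Z * (S * (R * e)) := by rw [hRS]; simp only [mul_assoc]
      _ = Z * e * (S * R) := by rw [← hsr, mul_assoc]
      _ = ζ • (S * (R * e)) := by rw [hZe, smul_mul_assoc, hsr]
  have hRRe : R * R * e * S = (ζ * ζ) • (S * (R * R * e)) := by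
    calc R * R * e * S = R * (R * e * S) := by simp only [mul_assoc]
      _ = ζ • (R * S * (R * e)) := by rw [hRe, mul_smul_comm, mul_assoc]
      _ = ζ • (Z * (S * R * (R * e))) := by rw [hRS, mul_assoc]
      _ = _ := by
        have e5 : S * R * (R * e) = e * (S * R * R) := by
          calc S * R * (R * e) = S * R * (e * R) := by rw [heR]
            _ = S * (R * e) * R := by simp only [mul_assoc]
            _ = S * (e * R) * R := by rw [heR]
            _ = S * e * (R * R) := by simp only [mul_assoc]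
            _ = e * S * (R * R) := by rw [heS]
            _ = _ := by simp only [mul_assoc]
        rw [e5, ← mul_assoc Z, hZe, smul_mul_assoc, smul_smul, ← e5]
        simp only [mul_assoc]
  have t1 := hcyc _ _ hζ1 hRe
  have t2 := hcyc _ _ (fun h1 => hζ1 (by linear_combination hζ3 - ζ * h1)) hRRe
  obtain ⟨f, hf⟩ : ∃ f, f = (3 : L)⁻¹ • (e + R * e + R * R * e) := ⟨_, rfl⟩
  have hff : f * f = f := by
    have eR' : R * f = f := by
      rw [hf, mul_smul_comm, mul_add, mul_add, ← mul_assoc, ← mul_assoc, ← mul_assoc, mul_assoc R R R, ← pow_three,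
        hR3, one_mul]
      abel_nf
    have ef : e * f = f := by
      have a1 : e * (R * e) = R * e := by rw [← mul_assoc, ← heR, mul_assoc, hee]
      have a2 : e * (R * R * e) = R * R * e := by
        rw [← mul_assoc, ← mul_assoc, ← heR, mul_assoc R e R, ← heR, ← mul_assoc, mul_assoc, hee]
      rw [hf, mul_smul_comm, mul_add, mul_add, hee, a1, a2]
    conv_lhs => enter [1]; rw [hf]
    simp only [smul_mul_assoc, add_mul, mul_assoc, eR', ef]
    match_scalars
    norm_num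
  obtain ⟨n, hn3, hn, hn0, hnf⟩ := trace_idem hee
  obtain ⟨m, hm3, hm, -, -⟩ := trace_idem hff
  have hnm : (n : L) = ((3 * m : ℕ) : L) := by
    push_cast
    rw [← hn, ← hm, hf, Matrix.trace_smul, Matrix.trace_add, Matrix.trace_add, t1, t2, smul_eq_mul]
    ring
  have hn33 : n = 3 := by
    have := Nat.cast_injective hnm
    rcases Nat.eq_zero_or_pos n with h0 | h0
    · exact absurd (hn0 h0) he0
    · omega
  have hZs : Z = ζ • 1 := by rw [← hnf hn33, ← hZe, hnf hn33, mul_one]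
  have hRS' : R * S = ζ • (S * R) := by rw [hRS, hZs, smul_mul_assoc, one_mul]
  obtain ⟨P, hPX, hPY⟩ := exists_normal hζ' hR3 hS3 hRS'
  let ρ' : H →* Matrix (Fin 3) (Fin 3) L :=
    { toFun := fun g => (↑P⁻¹ : Matrix (Fin 3) (Fin 3) L) * ρ g * (↑P : Matrix (Fin 3) (Fin 3) L)
      map_one' := by simp
      map_mul' := fun g g' => by simp only [map_mul, mul_assoc, Units.mul_inv_cancel_left] }
  have ex : ρ' h.x = X ζ := by
    show (↑P⁻¹ : Matrix (Fin 3) (Fin 3) L) * ρ h.x * (↑P : Matrix (Fin 3) (Fin 3) L) = _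
    rw [mul_assoc, ← hR, hPX, Units.inv_mul_cancel_left]
  have ey : ρ' h.y = Y L := by
    show (↑P⁻¹ : Matrix (Fin 3) (Fin 3) L) * ρ h.y * (↑P : Matrix (Fin 3) (Fin 3) L) = _
    rw [mul_assoc, ← hS, hPY, Units.inv_mul_cancel_left]
  have ez : ρ' h.z = ζ • 1 := by
    show (↑P⁻¹ : Matrix (Fin 3) (Fin 3) L) * ρ h.z * (↑P : Matrix (Fin 3) (Fin 3) L) = _
    rw [← hZ, hZs, mul_smul_comm, mul_one, smul_mul_assoc, Units.inv_mul]
  have hd' : ∀ g, (ρ' g).det = 1 := fun g => by
    show ((↑P⁻¹ : Matrix (Fin 3) (Fin 3) L) * ρ g * (↑P : Matrix (Fin 3) (Fin 3) L)).det = 1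
    rw [Matrix.det_units_conj', hd]
  -- a matrix with the action of `A` or `B` and the same order is that matrix
  have same : ∀ (g : H) (T T' : Matrix (Fin 3) (Fin 3) L), T' * T = 1 → T.det = 1 → T ^ 4 = 1 → g ^ 4 = 1 →
      X ζ * (T' * ρ' g) = T' * ρ' g * X ζ → Y L * (T' * ρ' g) = T' * ρ' g * Y L → ρ' g = T := by
    intro g T T' hT hTd hT4 hg4 c1 c2
    obtain ⟨c, hc⟩ : ∃ c : L, T' * ρ' g = c • 1 := ⟨_, eq_scalar_of_comm hζ' c1 c2⟩
    have hg : ρ' g = c • T := by
      have := congrArg (T * ·) hc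
      simp only [← mul_assoc, mul_eq_one_comm.1 hT, one_mul, mul_smul_comm, mul_one] at this
      exact this
    have e3 : c ^ 3 = 1 := by
      have := hd' g
      rwa [hg, Matrix.det_smul, hTd, mul_one, Fintype.card_fin] at this
    have e4 : c ^ 4 = 1 := by
      have := congrArg ρ' hg4
      rw [map_pow, map_one, hg, smul_pow, hT4] at this
      simpa using congrFun (congrFun this 0) 0
    rw [hg, show c = 1 by linear_combination e4 - c * e3, one_smul]
  have ha4 : A ζ ^ 4 = 1 := by rw [show 4 = 3 + 1 from rfl, pow_succ', pow_succ, pow_two]; exact A_four hζ'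
  have hb4 : B ζ ^ 4 = 1 := by rw [show 4 = 3 + 1 from rfl, pow_succ', pow_succ, pow_two]; exact B_four hζ'
  have hA4' : A ζ * A ζ * A ζ * A ζ = 1 := mul_eq_one_comm.1 (A_four hζ')
  have hB4' : B ζ * B ζ * B ζ * B ζ = 1 := mul_eq_one_comm.1 (B_four hζ')
  have flip : ∀ T T' U V W : Matrix (Fin 3) (Fin 3) L, T' * T = 1 → T * T' = 1 → T * U = V * T →
      W * U = V * W → U * (T' * W) = T' * W * U := by
    intro T T' U V W h1 h2 hTU hWU
    calc U * (T' * W) = T' * (T * U) * T' * W := by rw [← mul_assoc T', h1, one_mul, mul_assoc]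
      _ = T' * (V * T) * T' * W := by rw [hTU]
      _ = T' * V * (T * T') * W := by simp only [mul_assoc]
      _ = T' * (V * W) := by rw [h2, mul_one, mul_assoc]
      _ = T' * (W * U) := by rw [hWU]
      _ = T' * W * U := (mul_assoc _ _ _).symm
  have hAX : h.a * h.x = h.y * h.y * h.a := Subtype.ext (Units.ext (A_X hω))
  have hAY : h.a * h.y = h.x * h.a := Subtype.ext (Units.ext (A_Y hω))
  have hBX : h.b * h.x = h.z * h.z * (h.x * (h.y * h.y) * h.b) := Subtype.ext (Units.ext (by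
    simp [h.coe_z, Setup.x, Setup.y, Setup.b, smul_smul, B_X hω, pow_two]))
  have hBY : h.b * h.y = h.z * (h.x * h.x * (h.y * h.y) * h.b) := Subtype.ext (Units.ext (by
    simp [h.coe_z, Setup.x, Setup.y, Setup.b, B_Y hω]))
  refine ⟨L, inferInstance, inferInstance, inferInstance, ζ, hζ', ρ', ?_, ex, ey, ?_, ?_⟩
  · intro g g' hgg
    refine hinj ?_
    have := congrArg (fun M : Matrix (Fin 3) (Fin 3) L => (P : Matrix (Fin 3) (Fin 3) L) * M * (↑P⁻¹ : Matrix (Fin 3) (Fin 3) L)) hgg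
    simp only [ρ', MonoidHom.coe_mk, OneHom.coe_mk, ← mul_assoc, Units.mul_inv, one_mul] at this
    simpa only [mul_assoc, Units.mul_inv, mul_one] using this
  · refine same h.a (A ζ) (A ζ * A ζ * A ζ) hA4' (det_A hζ') ha4 h.quat.four ?_ ?_
    · exact flip _ _ _ _ _ hA4' (A_four hζ') (A_X hζ') (by rw [← ex, ← map_mul, hAX, map_mul, map_mul, ey])
    · exact flip _ _ _ _ _ hA4' (A_four hζ') (A_Y hζ') (by rw [← ey, ← map_mul, hAY, map_mul, ex])
  · refine same h.b (B ζ) (B ζ * B ζ * B ζ) hB4' (det_B hζ') hb4 h.quat.bfour ?_ ?_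
    · refine flip _ _ _ (ζ ^ 2 • (X ζ * (Y L * Y L))) _ hB4' (B_four hζ') ?_ ?_
      · rw [B_X hζ', smul_mul_assoc]
      · rw [← ex, ← map_mul, hBX]; simp only [map_mul, ex, ey, ez, smul_mul_assoc, one_mul, smul_smul, pow_two]
    · refine flip _ _ _ (ζ • (X ζ * X ζ * (Y L * Y L))) _ hB4' (B_four hζ') ?_ ?_
      · rw [B_Y hζ', smul_mul_assoc]
      · rw [← ey, ← map_mul, hBY]; simp only [map_mul, ex, ey, ez, smul_mul_assoc, one_mul]

end Cfsg.Agent.MaxCl.SLThree.C6
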