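import Cfsg.Agent.Lib.MaxCl.SLThree.C6.Std

/-!
# Without transvections the square of the characteristic does not divide the order
-/

set_option autoImplicit false
set_option linter.unusedSectionVars false

namespace Cfsg.Agent.MaxCl.SLThree.C6

open Matrix

variable {F : Type*} [Field F]

theorem pow_three_of_nilpotent {N : Matrix (Fin 3) (Fin 3) F} (h : IsNilpotent N) : N ^ 3 = 0 := by
  have h1 := Matrix.isNilpotent_charpoly_sub_pow_of_isNilpotent h
  rw [Fintype.card_fin, isNilpotent_iff_eq_zero, sub_eq_zero] at h1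
  have h2 := Matrix.aeval_self_charpoly N
  rwa [h1, map_pow, Polynomial.aeval_X] at h2

/-- The centraliser of a regular nilpotent matrix consists of its polynomials. -/
theorem eq_poly_of_comm {N M : Matrix (Fin 3) (Fin 3) F} (h3 : N ^ 3 = 0) (h2 : N ^ 2 ≠ 0) (hc : M * N = N * M) :
    ∃ a b c : F, M = a • 1 + b • N + c • N ^ 2 := by
  obtain ⟨v, hv⟩ : ∃ v, N ^ 2 *ᵥ v ≠ 0 := by
    by_contra h
    push Not at h
    exact h2 (Matrix.toLin'.injective (LinearMap.ext fun v => by rw [Matrix.toLin'_apply, h, map_zero]; rfl))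
  have hN : ∀ w, N *ᵥ (N *ᵥ (N *ᵥ w)) = 0 := fun w => by
    rw [mulVec_mulVec, mulVec_mulVec, show N * N * N = 0 by rw [← h3, pow_three, mul_assoc], zero_mulVec]
  obtain ⟨u₁, hu₁⟩ : ∃ u, u = N *ᵥ v := ⟨_, rfl⟩
  obtain ⟨u₂, hu₂⟩ : ∃ u, u = N *ᵥ u₁ := ⟨_, rfl⟩
  have hu₂0 : u₂ ≠ 0 := by rwa [hu₂, hu₁, mulVec_mulVec, ← pow_two]
  have hNu₂ : N *ᵥ u₂ = 0 := by rw [hu₂, hu₁, hN]
  have hind : LinearIndependent F ![v, u₁, u₂] := by
    rw [Fintype.linearIndependent_iff]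
    intro g hg
    simp [Fin.sum_univ_three] at hg
    have e1 := congrArg (N *ᵥ ·) hg
    simp [mulVec_add, mulVec_smul, ← hu₁, ← hu₂, hNu₂] at e1
    have e2 := congrArg (N *ᵥ ·) e1
    simp [mulVec_add, mulVec_smul, ← hu₂, hNu₂, hu₂0] at e2
    rw [e2, zero_smul, zero_add] at e1
    have e3 := (smul_eq_zero.1 e1).resolve_right hu₂0
    rw [e2, e3, zero_smul, zero_smul, zero_add, zero_add] at hg
    have e4 := (smul_eq_zero.1 hg).resolve_right hu₂0
    intro i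
    fin_cases i <;> assumption
  have hspan := hind.span_eq_top_of_card_eq_finrank (by simp)
  have hm : M *ᵥ v ∈ Submodule.span F (Set.range ![v, u₁, u₂]) := hspan ▸ Submodule.mem_top
  obtain ⟨g, hg⟩ := Submodule.mem_span_range_iff_exists_fun F |>.1 hm
  obtain ⟨D, hD⟩ : ∃ D, D = M - (g 0 • 1 + g 1 • N + g 2 • N ^ 2) := ⟨_, rfl⟩
  have hDc : D * N = N * D := by
    rw [hD]
    simp only [sub_mul, mul_sub, add_mul, mul_add, smul_mul_assoc, mul_smul_comm, one_mul, mul_one, hc,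
      (Commute.self_pow N 2).eq]
  have hDv : D *ᵥ v = 0 := by
    rw [hD, sub_mulVec, add_mulVec, add_mulVec, smul_mulVec, smul_mulVec, smul_mulVec,
      one_mulVec, pow_two, ← mulVec_mulVec, ← hu₁, ← hu₂, ← hg]
    simp [Fin.sum_univ_three]
  have hD1 : D *ᵥ u₁ = 0 := by rw [hu₁, mulVec_mulVec, hDc, ← mulVec_mulVec, hDv, mulVec_zero]
  have hD2 : D *ᵥ u₂ = 0 := by rw [hu₂, mulVec_mulVec, hDc, ← mulVec_mulVec, hD1, mulVec_zero]
  refine ⟨g 0, g 1, g 2, sub_eq_zero.1 (hD ▸ ?_)⟩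
  refine Matrix.toLin'.injective ?_
  rw [map_zero]
  refine LinearMap.ext_on_range hspan fun i => ?_
  fin_cases i <;> simpa [Matrix.toLin'_apply]

/-- If a commuting pair of unipotent elements always has rational first coefficient, then without transvections
the square of the characteristic does not divide the order. -/
theorem not_sq_dvd [Finite F] {p : ℕ} (hp : p.Prime) [CharP F p] (h3p : 3 ≤ p) {H : Subgroup (GL (Fin 3) F)}
    (hno : NoTv H)
    (hrat : ∀ x ∈ H, ∀ y ∈ H, ∀ a b : F, ((x : Matrix (Fin 3) (Fin 3) F) - 1) ^ 3 = 0 →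
      ((x : Matrix (Fin 3) (Fin 3) F) - 1) ^ 2 ≠ 0 →
      (y : Matrix (Fin 3) (Fin 3) F) =
        1 + a • ((x : Matrix (Fin 3) (Fin 3) F) - 1) + b • ((x : Matrix (Fin 3) (Fin 3) F) - 1) ^ 2 →
      ∃ n : ℕ, a = n) :
    ¬ p ^ 2 ∣ Nat.card H := by
  intro hdvd
  haveI : Fact p.Prime := ⟨hp⟩
  haveI : CharP (Matrix (Fin 3) (Fin 3) F) p := Matrix.charP p
  obtain ⟨P, hP⟩ := Sylow.exists_subgroup_card_pow_prime p hdvd
  have hcomm : ∀ a b : P, a * b = b * a := fun a b => IsPGroup.commutative_of_card_eq_prime_sq hP a b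
  have hz : ∀ g : P, (((g : H) : GL (Fin 3) F) : Matrix (Fin 3) (Fin 3) F) ^ (p ^ 2) = 1 := by
    intro g
    have h1 : g ^ (p ^ 2) = 1 := by rw [← hP]; exact pow_card_eq_one'
    have h2 := congrArg (fun u : P => (((u : H) : GL (Fin 3) F) : Matrix (Fin 3) (Fin 3) F)) h1
    simpa using h2
  have hnil : ∀ g : P, ((((g : H) : GL (Fin 3) F) : Matrix (Fin 3) (Fin 3) F) - 1) ^ 3 = 0 := fun g =>
    pow_three_of_nilpotent ⟨p ^ 2, by rw [sub_pow_char_pow_of_commute _ _ (Commute.one_right _), one_pow, hz, sub_self]⟩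
  have hord : ∀ g : P, g ^ p = 1 := by
    intro g
    refine Subtype.ext (Subtype.ext (Units.ext ?_))
    have h1 : ((((g : H) : GL (Fin 3) F) : Matrix (Fin 3) (Fin 3) F) - 1) ^ p = 0 := by
      rw [show p = 3 + (p - 3) by omega, pow_add, hnil, zero_mul]
    rw [sub_pow_char_of_commute _ (Commute.one_right _), one_pow, sub_eq_zero] at h1
    simpa using h1
  haveI : Nontrivial P := Finite.one_lt_card_iff_nontrivial.1 (hP ▸ Nat.one_lt_pow two_ne_zero hp.one_lt)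
  obtain ⟨x, hx1⟩ := exists_ne (1 : P)
  obtain ⟨y, hy⟩ : ∃ y : P, y ∉ Subgroup.zpowers x := by
    by_contra hall
    push Not at hall
    have h1 := orderOf_eq_card_of_forall_mem_zpowers hall
    rw [hP, orderOf_eq_prime (hord x) hx1] at h1
    have := Nat.pow_lt_pow_right hp.one_lt (show 1 < 2 by norm_num)
    rw [pow_one] at this
    omega
  obtain ⟨N, hN⟩ : ∃ N, N = (((x : H) : GL (Fin 3) F) : Matrix (Fin 3) (Fin 3) F) - 1 := ⟨_, rfl⟩
  obtain ⟨My, hMy⟩ : ∃ M, M = (((y : H) : GL (Fin 3) F) : Matrix (Fin 3) (Fin 3) F) := ⟨_, rfl⟩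
  have hN3 : N ^ 3 = 0 := hN ▸ hnil x
  have hN2 : N ^ 2 ≠ 0 := fun e => hx1 (Subtype.ext (Subtype.ext (hno _ (x : H).2 (hN ▸ e))))
  have hc : My * N = N * My := by
    have e := congrArg (fun u : P => (((u : H) : GL (Fin 3) F) : Matrix (Fin 3) (Fin 3) F)) (hcomm y x)
    simp only [Subgroup.coe_mul, Units.val_mul, ← hMy] at e
    rw [hN, mul_sub, sub_mul, e, mul_one, one_mul]
  obtain ⟨a, b, c, hy'⟩ := eq_poly_of_comm hN3 hN2 hc
  have ha : a = 1 := by
    have h1 : (My - 1) ^ 3 = 0 := hMy ▸ hnil y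
    have hN4 : N * N ^ 2 = 0 := by rw [← pow_succ', hN3]
    have h2 : (My - 1) * N ^ 2 = (a - 1) • N ^ 2 := by
      rw [hy', sub_mul, add_mul, add_mul, smul_mul_assoc, smul_mul_assoc, smul_mul_assoc, one_mul, hN4,
        show N ^ 2 * N ^ 2 = N * N ^ 2 * N by simp [pow_two, mul_assoc], hN4, zero_mul, smul_zero, smul_zero,
        add_zero, add_zero, sub_smul, one_smul]
    have h4 : (a - 1) ^ 3 • N ^ 2 = 0 := by
      rw [← zero_mul (N ^ 2), ← h1, pow_three (My - 1), mul_assoc, mul_assoc, h2, mul_smul_comm, h2, smul_smul,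
        mul_smul_comm, h2, smul_smul]
      congr 1
      ring
    exact sub_eq_zero.1 (eq_zero_of_pow_eq_zero ((smul_eq_zero.1 h4).resolve_right hN2))
  rw [ha, one_smul] at hy'
  obtain ⟨n, rfl⟩ := hrat _ (x : H).2 _ (y : H).2 b c (hN ▸ hN3) (hN ▸ hN2) (by rw [← hN, ← hMy, hy'])
  have hx' : (((x : H) : GL (Fin 3) F) : Matrix (Fin 3) (Fin 3) F) = 1 + N := by rw [hN]; abel
  have hpow : ∀ m : ℕ, ∃ e : F, (1 + N) ^ m = 1 + (m : F) • N + e • N ^ 2 := by
    intro m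
    induction m with
    | zero => exact ⟨0, by simp⟩
    | succ m ih =>
      obtain ⟨e, he⟩ := ih
      refine ⟨e + m, ?_⟩
      rw [pow_succ, he, Nat.cast_succ, add_smul, one_smul, add_smul]
      simp only [mul_add, add_mul, mul_one, one_mul, smul_mul_assoc, ← pow_two, ← pow_succ, hN3, smul_zero]
      abel
  obtain ⟨e, he⟩ := hpow n
  obtain ⟨z, hz'⟩ : ∃ z : GL (Fin 3) F, z = ((x : H) : GL (Fin 3) F) ^ n := ⟨_, rfl⟩
  have hzm : (z : Matrix (Fin 3) (Fin 3) F) = 1 + (n : F) • N + e • N ^ 2 := by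
    rw [hz', Units.val_pow_eq_pow_val, hx', he]
  have hzN : Commute (N ^ 2) ((z⁻¹ : GL (Fin 3) F) : Matrix (Fin 3) (Fin 3) F) := by
    refine Commute.units_inv_right ?_
    rw [hzm]
    exact ((Commute.one_right _).add_right ((Commute.pow_self N 2).smul_right _)).add_right
      ((Commute.refl _).smul_right _)
  have hg : ((y : H) : GL (Fin 3) F) * z⁻¹ = 1 := by
    refine hno _ (mul_mem (y : H).2 (inv_mem (hz' ▸ pow_mem (x : H).2 n))) ?_
    have hgm : ((((y : H) : GL (Fin 3) F) * z⁻¹ : GL (Fin 3) F) : Matrix (Fin 3) (Fin 3) F) - 1 =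
        (c - e) • (N ^ 2 * ((z⁻¹ : GL (Fin 3) F) : Matrix (Fin 3) (Fin 3) F)) := by
      rw [← smul_mul_assoc, show (c - e) • N ^ 2 = My - (z : Matrix (Fin 3) (Fin 3) F) by
        rw [hy', hzm, sub_smul]; abel, sub_mul, Units.mul_inv, Units.val_mul, ← hMy]
    rw [hgm, pow_two, smul_mul_assoc, mul_smul_comm, smul_smul, ← mul_assoc, mul_assoc (N ^ 2), ← hzN.eq,
      ← mul_assoc, show N ^ 2 * N ^ 2 = 0 by rw [← pow_add, pow_succ, hN3, zero_mul], zero_mul, zero_mul,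
      smul_zero]
  refine hy ⟨(n : ℤ), Subtype.ext (Subtype.ext ?_)⟩
  rw [mul_inv_eq_one] at hg
  simp [hg, hz']

/-- Over a prime field the hypothesis on the coefficients is empty. -/
theorem not_sq_dvd_prime [Fintype F] {p : ℕ} (hp : p.Prime) [CharP F p] (h3p : 3 ≤ p) (hF : Fintype.card F = p)
    {H : Subgroup (GL (Fin 3) F)} (hno : NoTv H) : ¬ p ^ 2 ∣ Nat.card H :=
  not_sq_dvd hp h3p hno fun _ _ _ _ a _ _ _ _ => by
    haveI : Fact p.Prime := ⟨hp⟩
    obtain ⟨z, hz⟩ := ((Fintype.bijective_iff_injective_and_card _).2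
      ⟨ZMod.castHom_injective F, by rw [ZMod.card, hF]⟩).2 a
    exact ⟨z.val, by rw [← hz, ← map_natCast (ZMod.castHom (dvd_refl p) F), ZMod.natCast_zmod_val]⟩

end Cfsg.Agent.MaxCl.SLThree.C6
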