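import Cfsg.Agent.Lib.MaxCl.SLThree.Elation

/-!
# An irreducible group with full root groups of transvections contains the special linear group
-/

set_option autoImplicit false
set_option linter.unusedSectionVars false

namespace Cfsg.Agent.MaxCl.SLThree.C6

open scoped MatrixGroups Matrix

variable {F : Type*} [Field F] {M : Subgroup (GL (Fin 3) F)}

/-- All incident axes are axes of transvections at the centre. -/
def Pencil (M : Subgroup (GL (Fin 3) F)) (v : Fin 3 → F) : Prop :=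
  v ≠ 0 ∧ ∀ φ, φ ≠ 0 → φ v = 0 → Flag M v φ

variable (hfull : ∀ (φ : (Fin 3 → F) →ₗ[F] F) (v : Fin 3 → F) (t : F), φ v = 0 → tv φ v ∈ M → tv φ (t • v) ∈ M)
  (hirr : ∀ W : Submodule F (Fin 3 → F), (∀ g ∈ M, ∀ x ∈ W, act g x ∈ W) → W = ⊥ ∨ W = ⊤)
include hfull

theorem Flag.all {v : Fin 3 → F} {φ : (Fin 3 → F) →ₗ[F] F} (h : Flag M v φ) (t : F) : tv φ (t • v) ∈ M := by
  obtain ⟨hv, c, hc, hm⟩ := h
  have := hfull φ (c • v) (t / c) (by simp [hv]) hm
  rwa [smul_smul, div_mul_cancel₀ _ hc] at this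

omit hfull in
theorem Flag.conj {g : GL (Fin 3) F} (hg : g ∈ M) {v : Fin 3 → F} {φ : (Fin 3 → F) →ₗ[F] F} (h : Flag M v φ) :
    Flag M (act g v) (φ ∘ₗ act g⁻¹) := by
  obtain ⟨hv, c, hc, hm⟩ := h
  exact ⟨by simp [act_inv_act, hv], c, hc, by rw [← map_smul]; exact conj_mem hg (by simp [hv]) hm⟩

omit hfull in
theorem Pencil.conj {g : GL (Fin 3) F} (hg : g ∈ M) {v : Fin 3 → F} (h : Pencil M v) : Pencil M (act g v) := by
  refine ⟨fun e => h.1 (act_injective g (e.trans (map_zero _).symm)), fun φ hφ hφv => ?_⟩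
  have hne : φ ∘ₗ act g ≠ 0 := fun e => hφ (LinearMap.ext fun x => by
    simpa [act_act_inv] using LinearMap.congr_fun e (act g⁻¹ x))
  have h1 := Flag.conj hg (h.2 _ hne hφv)
  have e : (φ ∘ₗ act g) ∘ₗ act g⁻¹ = φ := LinearMap.ext fun x => by simp [act_act_inv]
  rwa [e] at h1

omit hfull in
theorem Pencil.smul {v : Fin 3 → F} (h : Pencil M v) {c : F} (hc : c ≠ 0) : Pencil M (c • v) :=
  ⟨smul_ne_zero hc h.1, fun φ hφ hφv => (h.2 φ hφ (by simpa [hc] using hφv)).smul_centre hc⟩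

theorem Pencil.add {v w : Fin 3 → F} (hv : Pencil M v) (hw : Pencil M w) (hvw : v + w ≠ 0) :
    Pencil M (v + w) := by
  by_cases hind : v ∈ F ∙ w
  · obtain ⟨c, rfl⟩ := Submodule.mem_span_singleton.1 hind
    have e : c • w + w = (c + 1) • w := by rw [add_smul, one_smul]
    rw [e] at hvw ⊢
    exact hw.smul (left_ne_zero_of_smul hvw)
  · obtain ⟨χ, hχw, hχv⟩ := exists_dual (F ∙ w) hind
    have hw' : χ w = 0 := hχw w (Submodule.mem_span_singleton_self w)
    have hne : χ ≠ 0 := fun e => by simp [e] at hχv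
    have hm := Flag.all hfull (hw.2 χ hne hw') 1
    rw [one_smul] at hm
    have := hv.conj hm
    rwa [act_tv hw', hχv, one_smul] at this

/-- Two independent axes at one centre give a pencil. -/
theorem pencil_of_two {v : Fin 3 → F} {φ χ : (Fin 3 → F) →ₗ[F] F} (hv : v ≠ 0) (h : Flag M v φ) (h' : Flag M v χ)
    (hφ : φ ≠ 0) (hind : ∀ e : F, χ ≠ e • φ) : Pencil M v := by
  refine ⟨hv, fun ψ hψ hψv => ?_⟩
  obtain ⟨p₀, hp₀⟩ : ∃ p, φ p = 0 ∧ χ p ≠ 0 := by
    by_contra hall
    push Not at hall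
    obtain ⟨r, hr⟩ := LinearMap.surjective hφ 1
    refine hind (χ r) (LinearMap.ext fun x => ?_)
    have := hall (x - φ x • r) (by simp [hr])
    rw [map_sub, map_smul, sub_eq_zero] at this
    simp [this, mul_comm]
  obtain ⟨r₀, hr₀⟩ := LinearMap.surjective hφ 1
  obtain ⟨b, hb⟩ : ∃ b, b = ψ p₀ / χ p₀ := ⟨_, rfl⟩
  obtain ⟨a, ha⟩ : ∃ a, a = ψ r₀ - b * χ r₀ := ⟨_, rfl⟩
  have key : ψ = a • φ + b • χ := by
    refine LinearMap.ext fun x => ?_
    obtain ⟨y, hy⟩ : ∃ y, y = x - φ x • r₀ - ((χ x - φ x * χ r₀) / χ p₀) • p₀ := ⟨_, rfl⟩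
    have y1 : φ y = 0 := by rw [hy]; simp [hr₀, hp₀.1]
    have y2 : χ y = 0 := by rw [hy]; simp [div_mul_cancel₀ _ hp₀.2]
    have y3 : ψ y = 0 := by
      have hker : y ∈ F ∙ v := by
        let f : (Fin 3 → F) →ₗ[F] (F × F) := φ.prod χ
        have hs : LinearMap.range f = ⊤ := by
          refine LinearMap.range_eq_top.2 fun ⟨s, t⟩ => ⟨s • r₀ + ((t - s * χ r₀) / χ p₀) • p₀, ?_⟩
          simp [f, hr₀, hp₀.1, div_mul_cancel₀ _ hp₀.2]
        have hk := LinearMap.finrank_range_add_finrank_ker f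
        rw [hs, finrank_top, Module.finrank_prod, Module.finrank_self, Module.finrank_pi, Fintype.card_fin] at hk
        have hle : F ∙ v ≤ LinearMap.ker f :=
          (Submodule.span_singleton_le_iff_mem _ _).2 (by simp [f, h.1, h'.1])
        rw [Submodule.eq_of_le_of_finrank_le hle (by rw [finrank_span_singleton hv]; omega)]
        simp [f, y1, y2]
      obtain ⟨c, hc⟩ := Submodule.mem_span_singleton.1 hker
      rw [← hc, map_smul, hψv, smul_zero]
    rw [hy] at y3
    simp only [map_sub, map_smul, smul_eq_mul] at y3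
    simp only [LinearMap.add_apply, LinearMap.smul_apply, smul_eq_mul, ha, hb]
    linear_combination y3
  refine ⟨hψv, 1, one_ne_zero, ?_⟩
  rw [one_smul, key, ← tv_add _ _ _ (by simp [h.1]) (by simp [h'.1]), tv_smul_swap _ _ _ h.1,
    tv_smul_swap _ _ _ h'.1]
  exact M.mul_mem (Flag.all hfull h a) (Flag.all hfull h' b)

include hirr

theorem exists_pencil (h : ∃ v φ, v ≠ 0 ∧ φ ≠ 0 ∧ Flag M v φ) : ∃ v, Pencil M v := by
  by_contra hno
  push Not at hno
  have uniq : ∀ {v φ χ}, v ≠ 0 → Flag M v φ → Flag M v χ → φ ≠ 0 → ∃ e : F, χ = e • φ := by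
    intro v φ χ hv h1 h2 hφ
    by_contra hne
    push Not at hne
    exact hno v (pencil_of_two hfull hv h1 h2 hφ hne)
  obtain ⟨v, φ, hv, hφ, hvφ⟩ := h
  obtain ⟨w, χ, hw, hχ, hwχ, hφw⟩ : ∃ w χ, w ≠ 0 ∧ χ ≠ 0 ∧ Flag M w χ ∧ φ w ≠ 0 := by
    by_contra hall
    push Not at hall
    let W : Submodule F (Fin 3 → F) := Submodule.span F {z | z ≠ 0 ∧ ∃ ψ, ψ ≠ 0 ∧ Flag M z ψ}
    rcases hirr W (fun g hg x hx => by
      induction hx using Submodule.span_induction with
      | mem x hx =>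
        obtain ⟨hx0, ψ, hψ, hf⟩ := hx
        refine Submodule.subset_span ⟨fun e => hx0 (act_injective g (e.trans (map_zero _).symm)), _, ?_,
          Flag.conj hg hf⟩
        exact fun e => hψ (LinearMap.ext fun y => by simpa [act_inv_act] using LinearMap.congr_fun e (act g y))
      | zero => simp
      | add _ _ _ _ a b => rw [map_add]; exact add_mem a b
      | smul c _ _ a => rw [map_smul]; exact Submodule.smul_mem _ _ a) with hb | ht
    · exact hv ((Submodule.mem_bot F).1 (hb ▸ Submodule.subset_span ⟨hv, φ, hφ, hvφ⟩))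
    · refine hφ (LinearMap.ext fun x => ?_)
      have hle : W ≤ LinearMap.ker φ := Submodule.span_le.2 fun z ⟨hz, ψ, hψ, hf⟩ => hall z ψ hz hψ hf
      exact hle (ht ▸ Submodule.mem_top)
  have hχv : χ v ≠ 0 := by
    intro h0
    obtain ⟨hv', c, hc, hm⟩ := hvφ
    obtain ⟨hw', d, hd, hn⟩ := hwχ
    have h1 := comm_mem (φ := φ) (v := c • v) (χ := χ) (w := d • w) (by simp [hv']) (by simp [hw']) (by simp [h0])
      hm hn
    rw [map_smul, smul_smul] at h1
    obtain ⟨e, he⟩ := uniq hv ⟨hv', c, hc, hm⟩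
      ⟨h0, _, mul_ne_zero (mul_ne_zero hd hφw) hc, h1⟩ hφ
    refine hχ ?_
    have h2 : χ w = e * φ w := by rw [he]; simp
    rw [hw'] at h2
    rw [he, (mul_eq_zero.1 h2.symm).resolve_right hφw, zero_smul]
  obtain ⟨u, hu, hu0⟩ : ∃ u ∈ LinearMap.ker (φ.prod χ), u ≠ 0 := by
    refine Submodule.exists_mem_ne_zero_of_ne_bot fun hb => ?_
    have hk := LinearMap.finrank_range_add_finrank_ker (φ.prod χ)
    have hr := Submodule.finrank_le (LinearMap.range (φ.prod χ))
    rw [hb, finrank_bot, Module.finrank_pi, Fintype.card_fin] at hk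
    rw [Module.finrank_prod, Module.finrank_self] at hr
    omega
  have huφ : φ u = 0 := (Prod.ext_iff.1 (LinearMap.mem_ker.1 hu)).1
  have huχ : χ u = 0 := (Prod.ext_iff.1 (LinearMap.mem_ker.1 hu)).2
  -- every axis at a point of the line `v w` kills `u`
  have hL : ∀ a b : F, a • v + b • w ≠ 0 → ∃ η, η ≠ 0 ∧ η u = 0 ∧ Flag M (a • v + b • w) η := by
    intro a b hz
    by_cases ha : a = 0
    · subst ha
      rw [zero_smul, zero_add] at hz ⊢
      exact ⟨χ, hχ, huχ, hwχ.smul_centre (left_ne_zero_of_smul hz)⟩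
    · have hm := Flag.all hfull hwχ (b / a / χ v)
      have hf := (Flag.conj hm hvφ).smul_centre ha
      have e : a • v + b • w = a • act (tv χ ((b / a / χ v) • w)) v := by
        rw [act_tv (by simp [hwχ.1]), smul_add, smul_smul, smul_smul,
          mul_assoc, show a * (χ v * (b / a / χ v)) = b by field_simp]
      rw [e]
      refine ⟨_, fun e0 => hφ (LinearMap.ext fun x => ?_), ?_, hf⟩
      · simpa [act_inv_act] using LinearMap.congr_fun e0 (act (tv χ ((b / a / χ v) • w)) x)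
      · rw [LinearMap.comp_apply, act_tv_inv (by simp [hwχ.1]), huχ, zero_smul, sub_zero, huφ]
  have hall : ∀ z ψ, z ≠ 0 → ψ ≠ 0 → Flag M z ψ → ψ u = 0 := by
    intro z ψ hz hψ hf
    by_cases hzL : ∃ a b : F, z = a • v + b • w
    · obtain ⟨a, b, rfl⟩ := hzL
      obtain ⟨η, hη, hηu, hηf⟩ := hL a b hz
      obtain ⟨e, rfl⟩ := uniq hz hηf hf hη
      simp [hηu]
    obtain ⟨x, hx⟩ : ∃ x, x = ψ w • v + (-ψ v) • w := ⟨_, rfl⟩
    have hψx : ψ x = 0 := by rw [hx]; simp; ring
    by_cases hx0 : x = 0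
    · exfalso
      have e1 := congrArg φ hx0
      rw [hx] at e1
      simp [hvφ.1, hφw] at e1
      have e2 := congrArg χ hx0
      rw [hx] at e2
      simp [hwχ.1, hχv] at e2
      have hind : LinearIndependent F ![v, w] := by
        refine (LinearIndependent.pair_iff' hv).2 fun a ha => hφw ?_
        rw [← ha, map_smul, hvφ.1, smul_zero]
      have hle : Submodule.span F (Set.range ![v, w]) ≤ LinearMap.ker ψ := Submodule.span_le.2 (by
        rintro _ ⟨i, rfl⟩
        fin_cases i <;> simp [e1, e2])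
      have hmem : z ∈ Submodule.span F (Set.range ![v, w]) := by
        rw [Submodule.eq_of_le_of_finrank_le hle
          (by rw [finrank_span_eq_card hind, finrank_ker hψ, Fintype.card_fin])]
        exact hf.1
      rw [Matrix.range_cons, Matrix.range_cons, Matrix.range_empty, Set.union_empty, Set.singleton_union,
        Submodule.mem_span_pair] at hmem
      obtain ⟨a, b, hab⟩ := hmem
      exact hzL ⟨a, b, hab.symm⟩
    obtain ⟨η, hη, hηu, hηf⟩ := hL (ψ w) (-ψ v) (hx ▸ hx0)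
    rw [← hx] at hηf
    by_cases hηz : η z = 0
    · have hind : LinearIndependent F ![x, z] := (LinearIndependent.pair_iff' hx0).2 fun a ha =>
        hzL ⟨a * ψ w, a * -ψ v, by rw [← ha, hx, smul_add, smul_smul, smul_smul]⟩
      obtain ⟨e, rfl⟩ := prop_of_two hη hind hηf.1 hηz hψx hf.1
      simp [hηu]
    · obtain ⟨hηx, c, hc, hm⟩ := hηf
      obtain ⟨hz', d, hd, hn⟩ := hf
      have h1 := comm_mem (φ := η) (v := c • x) (χ := ψ) (w := d • z) (by simp [hηx]) (by simp [hz'])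
        (by simp [hψx]) hm hn
      rw [map_smul, smul_smul] at h1
      obtain ⟨e, rfl⟩ := uniq hx0 ⟨hηx, c, hc, hm⟩ ⟨hψx, _, mul_ne_zero (mul_ne_zero hd hηz) hc, h1⟩ hη
      simp [hηu]
  obtain hb | ht := hirr (⨅ (z : Fin 3 → F) (ψ : (Fin 3 → F) →ₗ[F] F)
      (_ : z ≠ 0 ∧ ψ ≠ 0 ∧ Flag M z ψ), LinearMap.ker ψ) (fun g hg x hx => by
    simp only [Submodule.mem_iInf, LinearMap.mem_ker] at hx ⊢
    rintro z ψ ⟨hz, hψ, hf⟩
    have h1 := hx (act g⁻¹ z) (ψ ∘ₗ act g) ⟨fun e => hz (act_injective g⁻¹ (e.trans (map_zero _).symm)),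
      fun e => hψ (LinearMap.ext fun y => by simpa [act_act_inv] using LinearMap.congr_fun e (act g⁻¹ y)), by
      have := Flag.conj (inv_mem hg) hf
      rwa [inv_inv] at this⟩
    exact h1)
  · refine hu0 ((Submodule.mem_bot F).1 (hb ▸ ?_))
    simp only [Submodule.mem_iInf, LinearMap.mem_ker]
    exact fun z ψ ⟨hz, hψ, hf⟩ => hall z ψ hz hψ hf
  · refine hφ (LinearMap.ext fun x => ?_)
    have hx : x ∈ (⊤ : Submodule F (Fin 3 → F)) := trivial
    rw [← ht] at hx
    simp only [Submodule.mem_iInf, LinearMap.mem_ker] at hx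
    exact hx v φ ⟨hv, hφ, hvφ⟩

/-- An irreducible group with a transvection and full root groups contains the special linear group. -/
theorem sl_le_of_full [Fintype F] (h : ∃ v φ, v ≠ 0 ∧ φ ≠ 0 ∧ Flag M v φ) :
    Cfsg.Geo.specialLinear (Fin 3) F ≤ M := by
  obtain ⟨v, hv⟩ := exists_pencil hfull hirr h
  let W : Submodule F (Fin 3 → F) :=
    { carrier := {x | x = 0 ∨ Pencil M x}
      zero_mem' := Or.inl rfl
      add_mem' := fun {x y} hx hy => by
        rcases hx with rfl | hx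
        · simpa using hy
        rcases hy with rfl | hy
        · rw [add_zero]; exact Or.inr hx
        by_cases h0 : x + y = 0
        · exact Or.inl h0
        · exact Or.inr (Pencil.add hfull hx hy h0)
      smul_mem' := fun c x hx => by
        rcases eq_or_ne c 0 with rfl | hc
        · exact Or.inl (zero_smul _ _)
        rcases hx with rfl | hx
        · exact Or.inl (smul_zero _)
        · exact Or.inr (hx.smul hc) }
  rcases hirr W (fun g hg x hx => hx.elim (fun e => Or.inl (by rw [e, map_zero])) fun e => Or.inr (e.conj hg))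
    with hb | ht
  · exact (hv.1 ((Submodule.mem_bot F).1 (hb ▸ (Or.inr hv : v ∈ W)))).elim
  · exact sl_le_of_all_flags fun x φ hx hφ h0 =>
      ((show x ∈ W from ht ▸ Submodule.mem_top).resolve_left hx).2 φ hφ h0

end Cfsg.Agent.MaxCl.SLThree.C6
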