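import Cfsg.Agent.Lib.MaxCl.SLThree.C6.Form
import Cfsg.Agent.Lib.MaxCl.SLThree.C6.Sylow
import Cfsg.Agent.Lib.MaxCl.SLThree.C6.Core
import Cfsg.Agent.Lib.MaxCl.SLThree.C6.Transv

/-!
# The normaliser of an extraspecial group of order 27 is maximal in `SL 3 p`
-/

set_option autoImplicit false
set_option linter.unusedSectionVars false

namespace Cfsg.Agent.MaxCl.SLThree

open Matrix
open Cfsg.Geo

variable {F : Type*} [Field F]

namespace C6

/-- An element with square zero difference from the identity is a transvection. -/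
theorem exists_tv_of_sub_sq {g : GL (Fin 3) F} (hg : ((g : Matrix (Fin 3) (Fin 3) F) - 1) ^ 2 = 0) (h1 : g ≠ 1) :
    ∃ (φ : (Fin 3 → F) →ₗ[F] F) (v : Fin 3 → F), φ ≠ 0 ∧ v ≠ 0 ∧ φ v = 0 ∧ g = tv φ v := by
  obtain ⟨N, hN⟩ : ∃ N : (Fin 3 → F) →ₗ[F] (Fin 3 → F), N = Matrix.toLin' ((g : Matrix (Fin 3) (Fin 3) F) - 1) :=
    ⟨_, rfl⟩
  have hNN : ∀ x, N (N x) = 0 := fun x => by
    rw [hN, Matrix.toLin'_apply, Matrix.toLin'_apply, Matrix.mulVec_mulVec, ← pow_two, hg, Matrix.zero_mulVec]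
  have hg' : ∀ x, act g x = x + N x := fun x => by
    rw [hN, Matrix.toLin'_apply, Matrix.sub_mulVec, Matrix.one_mulVec, act_apply, add_sub_cancel]
  obtain ⟨v₀, hv₀⟩ : ∃ x, N x ≠ 0 := by
    by_contra h
    push Not at h
    exact h1 (gl_ext fun x => by rw [act_one, hg', h, add_zero])
  have hr := LinearMap.finrank_range_add_finrank_ker N
  rw [Module.finrank_pi, Fintype.card_fin] at hr
  have hle : LinearMap.range N ≤ LinearMap.ker N := by
    rintro _ ⟨x, rfl⟩
    exact hNN x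
  have hle' := Submodule.finrank_mono hle
  have hsp : ∀ x, N x ∈ F ∙ N v₀ := fun x => by
    rw [Submodule.eq_of_le_of_finrank_le ((Submodule.span_singleton_le_iff_mem _ _).2 (LinearMap.mem_range_self N v₀))
      (by rw [finrank_span_singleton hv₀]; omega)]
    exact LinearMap.mem_range_self N x
  obtain ⟨i, hi⟩ := Function.ne_iff.1 hv₀
  obtain ⟨φ, hφ⟩ : ∃ φ : (Fin 3 → F) →ₗ[F] F, φ = (N v₀ i)⁻¹ • (LinearMap.proj i ∘ₗ N) := ⟨_, rfl⟩
  have hN' : ∀ x, N x = φ x • N v₀ := by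
    intro x
    obtain ⟨r, hr'⟩ := Submodule.mem_span_singleton.1 (hsp x)
    have hh : φ x = (N v₀ i)⁻¹ * N x i := by rw [hφ]; rfl
    rw [hh, ← hr', Pi.smul_apply, smul_eq_mul, mul_comm r, ← mul_assoc, inv_mul_cancel₀ hi, one_mul]
  have h0 : φ (N v₀) = 0 := by
    have := hN' (N v₀)
    rw [hNN] at this
    exact (smul_eq_zero.1 this.symm).resolve_right hv₀
  refine ⟨φ, N v₀, fun h => hv₀ (by rw [hN' v₀, h]; simp), hv₀, h0, gl_ext fun x => ?_⟩
  rw [act_tv h0, ← hN', hg']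

/-- Powers of a transvection. -/
theorem tv_nat_mem {M : Subgroup (GL (Fin 3) F)} {φ : (Fin 3 → F) →ₗ[F] F} {v : Fin 3 → F} (h : φ v = 0)
    (hm : tv φ v ∈ M) (n : ℕ) : tv φ ((n : F) • v) ∈ M := by
  induction n with
  | zero =>
    rw [show tv φ (((0 : ℕ) : F) • v) = 1 from gl_ext fun x => by rw [act_tv (by simp), act_one]; simp]
    exact M.one_mem
  | succ n ih =>
    rw [Nat.cast_succ, add_smul, one_smul, ← tv_add_right φ _ v (by simp [h]) h]
    exact M.mul_mem ih hm

variable {ω : F} (hω : IsPrimitiveRoot ω 3)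
include hω

/-- The special linear group does not normalise a group of exponent three containing the diagonal generator. -/
theorem not_sl_le_normalizer (hexp : ∀ g ∈ stdR hω, g ^ 3 = 1) :
    ¬ specialLinear (Fin 3) F ≤ subgroupNormalizer (stdR hω) := by
  intro hle
  let t : GL (Fin 3) F := ⟨!![1, 1, 0; 0, 1, 0; 0, 0, 1], !![1, -1, 0; 0, 1, 0; 0, 0, 1],
    by ext i j; fin_cases i <;> fin_cases j <;> simp [Matrix.mul_apply, Fin.sum_univ_three],
    by ext i j; fin_cases i <;> fin_cases j <;> simp [Matrix.mul_apply, Fin.sum_univ_three]⟩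
  have hts : t ∈ specialLinear (Fin 3) F := MonoidHom.mem_ker.2 (Units.ext (by
    rw [Matrix.GeneralLinearGroup.val_det_apply, Units.val_one]
    simp [t, Matrix.det_fin_three]))
  have ht := hle hts
  rw [subgroupNormalizer, Subgroup.mem_normalizer_iff] at ht
  have hu : t * gX hω * t⁻¹ * (gX hω)⁻¹ ∈ stdR hω :=
    mul_mem ((ht _).1 (gX_mem hω)) (inv_mem (gX_mem hω))
  have h3 := congrArg (fun g : GL (Fin 3) F => (g : Matrix (Fin 3) (Fin 3) F) 0 1) (hexp _ hu)
  have hc := cube hω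
  simp [t, X, gX, pow_three, Matrix.mul_apply, Fin.sum_univ_three] at h3
  have h4 : (3 : F) * (1 - ω ^ 2) = 0 := by grind
  rcases mul_eq_zero.1 h4 with h | h
  · exact three_ne_zero' hω h
  · exact hω.pow_ne_one_of_pos_of_lt (by norm_num) (by norm_num : (2 : ℕ) < 3) (sub_eq_zero.1 h).symm

end C6

open C6 in
/-- The normaliser of an extraspecial group of order 27 is maximal in `SL 3 p` for `p ≡ 1 mod 3`. -/
theorem c6_maximal {F : Type*} [Field F] [Fintype F] :
    ∀ (p : ℕ) (R : Subgroup (Matrix.GeneralLinearGroup (Fin 3) F)), p.Prime → Fintype.card F = p → p % 3 = 1 →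
      Cfsg.Geo.IsLinearSymplecticTypeData 3 R →
      Cfsg.Geo.IsMaximalIn (Cfsg.Geo.specialLinear (Fin 3) F)
        (Cfsg.Geo.subgroupNormalizer R ⊓ Cfsg.Geo.specialLinear (Fin 3) F) := by
  intro p R hp hF hp3 hR
  haveI : Fact p.Prime := ⟨hp⟩
  haveI : CharP F p := charP_of_card_eq_prime hF
  have h7 : 5 < p := by
    have := hp.two_le
    by_contra h
    interval_cases p <;> first | omega | norm_num at hp
  obtain ⟨ω, hω, P, hP⟩ := exists_stdR hR.symplecticType hR.absIrred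
  have hexp : ∀ g ∈ stdR hω, g ^ 3 = 1 := by
    intro g hg
    have hgR : MulAut.conj P g ∈ R := hP ▸ ⟨g, hg, rfl⟩
    have h := Monoid.pow_exponent_eq_one (⟨_, hgR⟩ : R)
    rw [hR.symplecticType.exponent_eq] at h
    have h' : (MulAut.conj P g) ^ 3 = 1 := congrArg Subtype.val h
    rwa [← map_pow, map_eq_one_iff _ (MulAut.conj P).injective] at h'
  obtain ⟨c, hc⟩ : ∃ c : GL (Fin 3) F ≃* GL (Fin 3) F, c = MulAut.conj P := ⟨_, rfl⟩
  have hN : subgroupNormalizer R = (subgroupNormalizer (stdR hω)).map c.toMonoidHom := by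
    rw [subgroupNormalizer, subgroupNormalizer, Subgroup.map_equiv_normalizer_eq, hP, hc]
  have hS : ∀ g, c g ∈ specialLinear (Fin 3) F ↔ g ∈ specialLinear (Fin 3) F := fun g => by
    rw [specialLinear, MonoidHom.mem_ker, MonoidHom.mem_ker, hc, MulAut.conj_apply, map_mul, map_mul, map_inv,
      mul_inv_cancel_comm]
  have hH : ∀ g, c g ∈ subgroupNormalizer R ⊓ specialLinear (Fin 3) F ↔
      g ∈ subgroupNormalizer (stdR hω) ∧ g ∈ specialLinear (Fin 3) F := fun g => by
    rw [Subgroup.mem_inf, hS, hN]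
    exact and_congr_left fun _ => Subgroup.mem_map_iff_mem (f := c.toMonoidHom) c.injective
  refine ⟨lt_of_le_of_ne inf_le_right fun e => not_sl_le_normalizer hω hexp fun g hg => ?_, fun M h1 h2 => ?_⟩
  · exact ((hH g).1 (e.symm ▸ (hS g).2 hg)).1
  obtain ⟨M', hM'⟩ : ∃ M' : Subgroup (GL (Fin 3) F), M' = M.comap c.toMonoidHom := ⟨_, rfl⟩
  have hle : ∀ g, g ∈ subgroupNormalizer (stdR hω) → g ∈ specialLinear (Fin 3) F → g ∈ M' := fun g h h' => by
    rw [hM']; exact h1 ((hH g).2 ⟨h, h'⟩)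
  have hsl : M' ≤ specialLinear (Fin 3) F := fun g hg => by
    rw [hM'] at hg; exact (hS g).1 (h2 hg)
  obtain ⟨nX, nY, nA, nB⟩ := gens_normalize hω
  by_cases hno : NoTv M'
  · left
    refine le_antisymm (fun g hg => ?_) h1
    obtain ⟨u, rfl⟩ := c.surjective g
    have hu : u ∈ M' := by rw [hM']; exact hg
    have hset : Setup hω M' p :=
      { prime := hp
        five := h7
        charP := inferInstance
        sl := hsl
        mX := hle _ nX (gX_mem_SL hω)
        mY := hle _ nY gY_mem_SL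
        mA := hle _ nA (gA_mem_SL hω)
        mB := hle _ nB (gB_mem_SL hω)
        noTv := hno
        sq := not_sq_dvd_prime hp (by omega) hF hno }
    exact (hH u).2 ⟨hset.normalizes hu, hsl hu⟩
  · right
    simp only [NoTv, not_forall] at hno
    obtain ⟨g, hg, hg2, hg1⟩ := hno
    obtain ⟨φ, v, hφ, hv, h0, rfl⟩ := exists_tv_of_sub_sq hg2 hg1
    have hfull : ∀ (φ : (Fin 3 → F) →ₗ[F] F) (v : Fin 3 → F) (t : F), φ v = 0 → tv φ v ∈ M' →
        tv φ (t • v) ∈ M' := by
      intro φ v t h0 hm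
      obtain ⟨z, hz⟩ := ((Fintype.bijective_iff_injective_and_card (ZMod.castHom (dvd_refl p) F)).2
        ⟨ZMod.castHom_injective _, by rw [ZMod.card, hF]⟩).2 t
      rw [← hz, ← ZMod.natCast_zmod_val z, map_natCast]
      exact tv_nat_mem h0 hm _
    have hirr : ∀ W : Submodule F (Fin 3 → F), (∀ g ∈ M', ∀ x ∈ W, act g x ∈ W) → W = ⊥ ∨ W = ⊤ :=
      fun W hW => stdR_irreducible hω W
        (fun x hx => by simpa [act_apply] using hW _ (hle _ nX (gX_mem_SL hω)) x hx)
        (fun x hx => by simpa [act_apply] using hW _ (hle _ nY gY_mem_SL) x hx)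
    have hall := sl_le_of_full hfull hirr ⟨v, φ, hv, hφ, h0, 1, one_ne_zero, by rwa [one_smul]⟩
    refine le_antisymm h2 fun g hg => ?_
    obtain ⟨u, rfl⟩ := c.surjective g
    have := hall ((hS u).1 hg)
    rwa [hM'] at this

end Cfsg.Agent.MaxCl.SLThree
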