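import Cfsg.Agent.Lib.MaxCl.SLThree.C6.Weyl

/-!
# The normal form, and the traces forced by the elements normalising the quaternion group
-/

set_option autoImplicit false
set_option linter.unusedSectionVars false

namespace Cfsg.Agent.MaxCl.SLThree.C6

open Matrix

variable {K : Type*} [Field K] {ω : K} (hω : IsPrimitiveRoot ω 3)
include hω

/-- Two matrices with the relations of the standard generators are conjugate to them. -/
theorem exists_normal {r s : Matrix (Fin 3) (Fin 3) K} (hr : r ^ 3 = 1) (hs : s ^ 3 = 1)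
    (h : r * s = ω • (s * r)) :
    ∃ P : GL (Fin 3) K, r * (P : Matrix (Fin 3) (Fin 3) K) = (P : Matrix (Fin 3) (Fin 3) K) * X ω ∧
      s * (P : Matrix (Fin 3) (Fin 3) K) = (P : Matrix (Fin 3) (Fin 3) K) * Y K := by
  have h3 := cube hω
  have hω0 : ω ≠ 0 := hω.ne_zero (by norm_num)
  have key : ∀ k : ℕ, r * (1 + ω ^ k • r + ω ^ (2 * k) • (r * r)) =
      ω ^ (2 * k) • (1 + ω ^ k • r + ω ^ (2 * k) • (r * r)) := by
    intro k
    have e1 : ω ^ (2 * k) * ω ^ k = 1 := by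
      rw [← pow_add, show 2 * k + k = 3 * k by ring, pow_mul, h3, one_pow]
    have e2 : ω ^ (2 * k) * ω ^ (2 * k) = ω ^ k := by
      rw [← pow_add, show 2 * k + 2 * k = k + 3 * k by ring, pow_add, pow_mul, h3, one_pow, mul_one]
    have e3 : r * (r * r) = 1 := by rw [← pow_three, hr]
    simp only [mul_add, mul_smul_comm, mul_one, e3, smul_add, smul_smul, e1, e2]
    module
  obtain ⟨k, w, hw⟩ : ∃ (k : ℕ) (w : Fin 3 → K), (1 + ω ^ k • r + ω ^ (2 * k) • (r * r)) *ᵥ w ≠ 0 := by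
    by_contra hall
    push Not at hall
    have hz : ∀ k : ℕ, (1 : Matrix (Fin 3) (Fin 3) K) + ω ^ k • r + ω ^ (2 * k) • (r * r) = 0 := fun k => by
      refine Matrix.toLin'.injective (LinearMap.ext fun w => ?_)
      rw [Matrix.toLin'_apply, hall, map_zero, LinearMap.zero_apply]
    have hsum : (3 : K) • (1 : Matrix (Fin 3) (Fin 3) K) = 0 := by
      have := congrArg₂ (· + ·) (congrArg₂ (· + ·) (hz 0) (hz 1)) (hz 2)
      have hs := sum_eq_zero hω
      simp only [add_zero] at this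
      rw [← this]
      match_scalars <;> grind
    exact one_ne_zero ((smul_eq_zero.1 hsum).resolve_left (three_ne_zero' hω))
  obtain ⟨v, hv⟩ : ∃ v, v = (1 + ω ^ k • r + ω ^ (2 * k) • (r * r)) *ᵥ w := ⟨_, rfl⟩
  have hrv : r *ᵥ v = ω ^ (2 * k) • v := by rw [hv, Matrix.mulVec_mulVec, key, Matrix.smul_mulVec]
  have hsh : ∀ m : ℕ, r *ᵥ (s ^ m *ᵥ v) = ω ^ (m + 2 * k) • (s ^ m *ᵥ v) := by
    intro m
    induction m with
    | zero => simpa using hrv
    | succ m ih =>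
      rw [pow_succ', ← Matrix.mulVec_mulVec v s, Matrix.mulVec_mulVec _ r, h, Matrix.smul_mulVec,
        ← Matrix.mulVec_mulVec, ih, Matrix.mulVec_smul, smul_smul, ← pow_succ',
        show m + 2 * k + 1 = m + 1 + 2 * k by ring]
  have hne : ∀ m : ℕ, s ^ m *ᵥ v ≠ 0 := by
    intro m h0
    have := congrArg (fun u => s ^ (2 * m) *ᵥ u) h0
    rw [Matrix.mulVec_mulVec, Matrix.mulVec_zero, ← pow_add, show 2 * m + m = 3 * m by ring, pow_mul, hs,
      one_pow, Matrix.one_mulVec] at this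
    exact hw (hv ▸ this)
  obtain ⟨u, hu⟩ : ∃ u, u = s ^ k *ᵥ v := ⟨_, rfl⟩
  have hru : ∀ j : ℕ, r *ᵥ (s ^ j *ᵥ u) = ω ^ j • (s ^ j *ᵥ u) := by
    intro j
    rw [hu, Matrix.mulVec_mulVec v (s ^ j), ← pow_add, hsh, show j + k + 2 * k = j + 3 * k by ring, pow_add ω,
      pow_mul ω, h3, one_pow, mul_one]
  have hu0 : ∀ j : ℕ, s ^ j *ᵥ u ≠ 0 := fun j => by
    rw [hu, Matrix.mulVec_mulVec, ← pow_add]; exact hne _
  obtain ⟨P, hP⟩ : ∃ P : Matrix (Fin 3) (Fin 3) K, ∀ i j, P i j = (s ^ (j : ℕ) *ᵥ u) i :=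
    ⟨Matrix.of fun i j => (s ^ (j : ℕ) *ᵥ u) i, fun _ _ => rfl⟩
  have hrP : r * P = P * X ω := by
    ext i j
    have e := congrFun (hru j) i
    simp only [Matrix.mulVec, dotProduct, Pi.smul_apply, smul_eq_mul] at e
    rw [Matrix.mul_apply]
    simp only [hP]
    rw [show (∑ l, r i l * (s ^ (j : ℕ) *ᵥ u) l) = ω ^ (j : ℕ) * (s ^ (j : ℕ) *ᵥ u) i from
      congrFun (hru j) i]
    fin_cases j <;> simp [X, Matrix.mul_apply, Fin.sum_univ_three, hP] <;> ring
  have hsP : s * P = P * Y K := by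
    ext i j
    rw [Matrix.mul_apply]
    simp only [hP]
    rw [show (∑ l, s i l * (s ^ (j : ℕ) *ᵥ u) l) = (s *ᵥ (s ^ (j : ℕ) *ᵥ u)) i from rfl, Matrix.mulVec_mulVec,
      ← pow_succ']
    fin_cases j <;> simp [Y, Matrix.mul_apply, Fin.sum_univ_three, hP, hs]
  have hdet : P.det ≠ 0 := by
    intro h0
    obtain ⟨c, hc, hc0⟩ := Matrix.exists_mulVec_eq_zero_iff.2 h0
    obtain ⟨f, hf⟩ : ∃ f : Fin 3 → (Fin 3 → K), ∀ j, f j = c j • (s ^ (j : ℕ) *ᵥ u) := ⟨_, fun _ => rfl⟩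
    have e0 : f 0 + f 1 + f 2 = 0 := by
      rw [← hc0]
      funext i
      fin_cases i <;> simp [Matrix.mulVec, dotProduct, hP, hf, Fin.sum_univ_three, mul_comm] <;> ring
    have hrf : ∀ j : Fin 3, r *ᵥ f j = ω ^ (j : ℕ) • f j := fun j => by
      rw [hf, Matrix.mulVec_smul, hru, smul_comm]
    have e1 : f 0 + ω • f 1 + ω ^ 2 • f 2 = 0 := by
      have := congrArg (r *ᵥ ·) e0
      simpa [Matrix.mulVec_add, hrf] using this
    have e2 : f 0 + ω ^ 2 • f 1 + ω • f 2 = 0 := by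
      have := congrArg (r *ᵥ ·) e1
      simp only [Matrix.mulVec_add, Matrix.mulVec_smul, hrf, smul_smul, Matrix.mulVec_zero] at this
      simpa [← pow_two, ← pow_mul, ← pow_add, show ω ^ 4 = ω by rw [pow_succ, h3, one_mul]] using this
    have hs1 := sum_eq_zero hω
    have h30 := three_ne_zero' hω
    have hall : ∀ j, f j = 0 := by
      intro j
      funext i
      have a0 := congrFun e0 i
      have a1 := congrFun e1 i
      have a2 := congrFun e2 i
      simp only [Pi.add_apply, Pi.smul_apply, smul_eq_mul, Pi.zero_apply] at a0 a1 a2 ⊢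
      fin_cases j <;> simp <;> grind
    exact hc (funext fun j => (smul_eq_zero.1 ((hf j).symm.trans (hall j))).resolve_right (hu0 j))
  exact ⟨Matrix.GeneralLinearGroup.mkOfDetNeZero P hdet, hrP, hsP⟩

variable {G : Matrix (Fin 3) (Fin 3) K}

/-- Centralising the quaternion group. -/
theorem centralizer_quat (hA : G * A ω = A ω * G) (hB : G * B ω = B ω * G) :
    G = !![G 1 1 + G 1 2, 0, 0; 0, G 1 1, G 1 2; 0, G 1 2, G 1 1] ∧ (G * Y K).trace = G 1 2 := by
  have h1 := sum_eq_zero hω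
  have h30 := three_ne_zero' hω
  have h2 := sub_sq_ne hω
  have hsame : ∀ T, (ω - ω ^ 2) • (ω - ω ^ 2)⁻¹ • (T : Matrix (Fin 3) (Fin 3) K) = T := fun T => by
    rw [smul_smul, mul_inv_cancel₀ h2, one_smul]
  have hA' := congrArg ((ω - ω ^ 2) • ·) hA
  have hB' := congrArg ((ω - ω ^ 2) • ·) hB
  simp only [A, B, mul_smul_comm, smul_mul_assoc, hsame] at hA' hB'
  have a00 := congrFun (congrFun hA' 0) 0
  have a01 := congrFun (congrFun hA' 0) 1
  have a02 := congrFun (congrFun hA' 0) 2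
  have a10 := congrFun (congrFun hA' 1) 0
  have a11 := congrFun (congrFun hA' 1) 1
  have a12 := congrFun (congrFun hA' 1) 2
  have a20 := congrFun (congrFun hA' 2) 0
  have a21 := congrFun (congrFun hA' 2) 1
  have a22 := congrFun (congrFun hA' 2) 2
  have b00 := congrFun (congrFun hB' 0) 0
  have b01 := congrFun (congrFun hB' 0) 1
  have b02 := congrFun (congrFun hB' 0) 2
  have b10 := congrFun (congrFun hB' 1) 0
  have b11 := congrFun (congrFun hB' 1) 1
  have b12 := congrFun (congrFun hB' 1) 2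
  have b20 := congrFun (congrFun hB' 2) 0
  have b21 := congrFun (congrFun hB' 2) 1
  have b22 := congrFun (congrFun hB' 2) 2
  simp [Matrix.mul_apply, Fin.sum_univ_three] at a00 a01 a02 a10 a11 a12 a20 a21 a22
  simp [Matrix.mul_apply, Fin.sum_univ_three] at b00 b01 b02 b10 b11 b12 b20 b21 b22
  refine ⟨?_, ?_⟩
  · ext i j
    fin_cases i <;> fin_cases j <;> simp <;> grind
  · simp [Y, Matrix.trace_fin_three, Matrix.mul_apply, Fin.sum_univ_three]
    grind

theorem A_mul_B : A ω * B ω = (ω - ω ^ 2)⁻¹ • !![1, ω, ω; ω ^ 2, ω, ω ^ 2; ω ^ 2, ω ^ 2, ω] := by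
  have h1 := sum_eq_zero hω
  have h2 := sub_sq_ne hω
  ext i j
  fin_cases i <;> fin_cases j <;> simp [A, B, Matrix.mul_apply, Fin.sum_univ_three] <;> field_simp <;> grind

theorem A_cubed : A ω * A ω * A ω = (ω - ω ^ 2)⁻¹ • !![-1, -1, -1; -1, -ω ^ 2, -ω; -1, -ω, -ω ^ 2] := by
  rw [A_sq hω]
  ext i j
  fin_cases i <;> fin_cases j <;> simp [A, Matrix.mul_apply, Fin.sum_univ_three]

theorem B_cubed : B ω * B ω * B ω =
    (ω - ω ^ 2)⁻¹ • !![-1, -ω ^ 2, -ω ^ 2; -ω, -ω ^ 2, -ω; -ω, -ω, -ω ^ 2] := by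
  rw [B_sq hω]
  ext i j
  fin_cases i <;> fin_cases j <;> simp [B, Matrix.mul_apply, Fin.sum_univ_three]

/-- Exchanging the first two axes. -/
theorem swap_AB (h20 : (2 : K) ≠ 0) (hA : G * A ω = B ω * G) (hB : G * B ω = A ω * G) :
    G *ᵥ ![0, 1, -1] = (G 1 1 - G 1 2) • ![0, 1, -1] ∧ 2 * (G * Y K).trace = -(G 1 1 - G 1 2) := by
  have h1 := sum_eq_zero hω
  have h30 := three_ne_zero' hω
  have hc : (ω - ω ^ 2)⁻¹ ≠ 0 := inv_ne_zero (sub_sq_ne hω)
  simp only [A, B, mul_smul_comm, smul_mul_assoc] at hA hB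
  replace hA := smul_right_injective _ hc hA
  replace hB := smul_right_injective _ hc hB
  have a00 := congrFun (congrFun hA 0) 0
  have a01 := congrFun (congrFun hA 0) 1
  have a02 := congrFun (congrFun hA 0) 2
  have a10 := congrFun (congrFun hA 1) 0
  have a11 := congrFun (congrFun hA 1) 1
  have a12 := congrFun (congrFun hA 1) 2
  have a20 := congrFun (congrFun hA 2) 0
  have a21 := congrFun (congrFun hA 2) 1
  have a22 := congrFun (congrFun hA 2) 2
  have b00 := congrFun (congrFun hB 0) 0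
  have b01 := congrFun (congrFun hB 0) 1
  have b02 := congrFun (congrFun hB 0) 2
  have b10 := congrFun (congrFun hB 1) 0
  have b11 := congrFun (congrFun hB 1) 1
  have b12 := congrFun (congrFun hB 1) 2
  have b20 := congrFun (congrFun hB 2) 0
  have b21 := congrFun (congrFun hB 2) 1
  have b22 := congrFun (congrFun hB 2) 2
  simp [Matrix.mul_apply, Fin.sum_univ_three] at a00 a01 a02 a10 a11 a12 a20 a21 a22
  simp [Matrix.mul_apply, Fin.sum_univ_three] at b00 b01 b02 b10 b11 b12 b20 b21 b22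
  clear hA hB
  refine ⟨?_, ?_⟩
  · funext i
    fin_cases i <;> simp [Matrix.mulVec, dotProduct, Fin.sum_univ_three] <;> grind
  · simp [X, Y, Matrix.trace_fin_three, Matrix.mul_apply, Fin.sum_univ_three]
    grind

/-- Exchanging the first and third axes. -/
theorem swap_AC (h20 : (2 : K) ≠ 0) (hA : G * A ω = (A ω * B ω) * G) (hB : G * B ω = (B ω * B ω * B ω) * G) :
    G *ᵥ ![0, 1, -1] = (G 1 1 - G 1 2) • ![0, 1, -1] ∧ 2 * (G * Y K).trace = -(G 1 1 - G 1 2) := by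
  have h1 := sum_eq_zero hω
  have h30 := three_ne_zero' hω
  have hc : (ω - ω ^ 2)⁻¹ ≠ 0 := inv_ne_zero (sub_sq_ne hω)
  rw [A_mul_B hω] at hA
  rw [B_cubed hω] at hB
  simp only [A, B, mul_smul_comm, smul_mul_assoc] at hA hB
  replace hA := smul_right_injective _ hc hA
  replace hB := smul_right_injective _ hc hB
  have a00 := congrFun (congrFun hA 0) 0
  have a01 := congrFun (congrFun hA 0) 1
  have a02 := congrFun (congrFun hA 0) 2
  have a10 := congrFun (congrFun hA 1) 0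
  have a11 := congrFun (congrFun hA 1) 1
  have a12 := congrFun (congrFun hA 1) 2
  have a20 := congrFun (congrFun hA 2) 0
  have a21 := congrFun (congrFun hA 2) 1
  have a22 := congrFun (congrFun hA 2) 2
  have b00 := congrFun (congrFun hB 0) 0
  have b01 := congrFun (congrFun hB 0) 1
  have b02 := congrFun (congrFun hB 0) 2
  have b10 := congrFun (congrFun hB 1) 0
  have b11 := congrFun (congrFun hB 1) 1
  have b12 := congrFun (congrFun hB 1) 2
  have b20 := congrFun (congrFun hB 2) 0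
  have b21 := congrFun (congrFun hB 2) 1
  have b22 := congrFun (congrFun hB 2) 2
  simp [Matrix.mul_apply, Fin.sum_univ_three] at a00 a01 a02 a10 a11 a12 a20 a21 a22
  simp [Matrix.mul_apply, Fin.sum_univ_three] at b00 b01 b02 b10 b11 b12 b20 b21 b22
  clear hA hB
  have e0 : G 0 1 = G 0 2 := by
    refine mul_left_cancel₀ h30 ?_
    linear_combination (-1 - ω) * a01 + (1 + ω) * a02 - ω * a11 + ω * a12 +
      (((2) * ω ^ 0 + (-2) * ω ^ 1) * G 0 1 + ((-2) * ω ^ 0 + (2) * ω ^ 1) * G 0 2 + ((-1) * ω ^ 1) * G 1 1 +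
        ((1) * ω ^ 1) * G 1 2 + ((-1) * ω ^ 1) * G 2 1 + ((1) * ω ^ 1) * G 2 2) * h1
  have e2 : G 2 1 - G 2 2 = -(G 1 1 - G 1 2) := by
    refine mul_left_cancel₀ h30 ?_
    linear_combination (1 + ω) * a01 + (-1 - ω) * a02 - 2 * ω * a11 + 2 * ω * a12 +
      (((1) * ω ^ 0 + (-1) * ω ^ 1) * G 0 1 + ((-1) * ω ^ 0 + (1) * ω ^ 1) * G 0 2 +
        ((3) * ω ^ 0 + (-2) * ω ^ 1) * G 1 1 + ((-3) * ω ^ 0 + (2) * ω ^ 1) * G 1 2 +
        ((3) * ω ^ 0 + (-2) * ω ^ 1) * G 2 1 + ((-3) * ω ^ 0 + (2) * ω ^ 1) * G 2 2) * h1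
  have et : 2 * (G 0 1 + G 1 2 + G 2 0) = -(G 1 1 - G 1 2) := by
    refine mul_left_cancel₀ (mul_ne_zero h30 h20) ?_
    linear_combination (11 + 10 * ω) * a00 + 2 * ω * a01 + (4 + 6 * ω) * a02 +
      (-2 - 4 * ω) * a10 - 2 * a11 + (-2 + 4 * ω) * a12 + (-3 - 3 * ω) * b00 +
      (((2) * ω ^ 0 + (-4) * ω ^ 1) * G 0 0 + ((1) * ω ^ 0 + (-6) * ω ^ 1) * G 0 1 +
        ((-7) * ω ^ 0 + (2) * ω ^ 1) * G 0 2 + ((6) * ω ^ 0 + (3) * ω ^ 1) * G 1 0 +
        ((8) * ω ^ 0 + (-4) * ω ^ 1) * G 1 1 + ((8) * ω ^ 0) * G 1 2 + ((12) * ω ^ 0 + (-1) * ω ^ 1) * G 2 0 +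
        ((4) * ω ^ 1) * G 2 2) * h1
  clear a00 a01 a02 a10 a11 a12 a20 a21 a22 b00 b01 b02 b10 b11 b12 b20 b21 b22
  refine ⟨?_, ?_⟩
  · funext i
    fin_cases i <;> simp [Matrix.mulVec, dotProduct, Fin.sum_univ_three] <;> grind
  · simp [Y, Matrix.trace_fin_three, Matrix.mul_apply, Fin.sum_univ_three]
    grind

/-- Exchanging the last two axes. -/
theorem swap_BC (h20 : (2 : K) ≠ 0) (hA : G * A ω = (A ω * A ω * A ω) * G) (hB : G * B ω = (A ω * B ω) * G) :
    G *ᵥ ![0, 1, -1] = (G 1 1 - G 1 2) • ![0, 1, -1] ∧ 2 * (G * (X ω * Y K)).trace = -(ω ^ 2 * (G 1 1 - G 1 2)) := by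
  have h1 := sum_eq_zero hω
  have h30 := three_ne_zero' hω
  have hc : (ω - ω ^ 2)⁻¹ ≠ 0 := inv_ne_zero (sub_sq_ne hω)
  rw [A_cubed hω] at hA
  rw [A_mul_B hω] at hB
  simp only [A, B, mul_smul_comm, smul_mul_assoc] at hA hB
  replace hA := smul_right_injective _ hc hA
  replace hB := smul_right_injective _ hc hB
  have a00 := congrFun (congrFun hA 0) 0
  have a01 := congrFun (congrFun hA 0) 1
  have a02 := congrFun (congrFun hA 0) 2
  have a10 := congrFun (congrFun hA 1) 0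
  have a11 := congrFun (congrFun hA 1) 1
  have a12 := congrFun (congrFun hA 1) 2
  have a20 := congrFun (congrFun hA 2) 0
  have a21 := congrFun (congrFun hA 2) 1
  have a22 := congrFun (congrFun hA 2) 2
  have b00 := congrFun (congrFun hB 0) 0
  have b01 := congrFun (congrFun hB 0) 1
  have b02 := congrFun (congrFun hB 0) 2
  have b10 := congrFun (congrFun hB 1) 0
  have b11 := congrFun (congrFun hB 1) 1
  have b12 := congrFun (congrFun hB 1) 2
  have b20 := congrFun (congrFun hB 2) 0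
  have b21 := congrFun (congrFun hB 2) 1
  have b22 := congrFun (congrFun hB 2) 2
  simp [Matrix.mul_apply, Fin.sum_univ_three] at a00 a01 a02 a10 a11 a12 a20 a21 a22
  simp [Matrix.mul_apply, Fin.sum_univ_three] at b00 b01 b02 b10 b11 b12 b20 b21 b22
  clear hA hB
  refine ⟨?_, ?_⟩
  · funext i
    fin_cases i <;> simp [Matrix.mulVec, dotProduct, Fin.sum_univ_three] <;> grind
  · simp [X, Y, Matrix.trace_fin_three, Matrix.mul_apply, Fin.sum_univ_three]
    grind

end Cfsg.Agent.MaxCl.SLThree.C6
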