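import Cfsg.Agent.Lib.MaxCl.SLThree.C6.Normal
import Cfsg.Prelude.Def_GeometricClasses

/-!
# The standard group of order 27 and the quaternion group as subgroups of `GL 3`
-/

set_option autoImplicit false
set_option linter.unusedSectionVars false

namespace Cfsg.Agent.MaxCl.SLThree.C6

open Matrix

variable {F : Type*} [Field F] {ω : F} (hω : IsPrimitiveRoot ω 3)

/-- The diagonal generator as an invertible matrix. -/
def gX : GL (Fin 3) F :=
  ⟨X ω, X ω * X ω, by rw [← mul_assoc, X_cube hω], by rw [X_cube hω]⟩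

variable (F) in
/-- The cyclic generator as an invertible matrix. -/
def gY : GL (Fin 3) F :=
  ⟨Y F, Y F * Y F, by rw [← mul_assoc, Y_cube], Y_cube⟩

/-- The generator `A` as an invertible matrix. -/
def gA : GL (Fin 3) F :=
  ⟨A ω, A ω * A ω * A ω, A_four hω, by rw [mul_assoc, invol_sq hω]⟩

/-- The generator `B` as an invertible matrix. -/
def gB : GL (Fin 3) F :=
  ⟨B ω, B ω * B ω * B ω, B_four hω, by rw [mul_assoc, B_sq hω, ← A_sq hω, invol_sq hω]⟩

@[simp] theorem coe_gX : (gX hω : Matrix (Fin 3) (Fin 3) F) = X ω := rfl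
@[simp] theorem coe_gY : (gY F : Matrix (Fin 3) (Fin 3) F) = Y F := rfl
@[simp] theorem coe_gA : (gA hω : Matrix (Fin 3) (Fin 3) F) = A ω := rfl
@[simp] theorem coe_gB : (gB hω : Matrix (Fin 3) (Fin 3) F) = B ω := rfl

/-- The scalar `ω`. -/
def gZ : GL (Fin 3) F :=
  gX hω * gY F * (gX hω)⁻¹ * (gY F)⁻¹

theorem coe_gZ : (gZ hω : Matrix (Fin 3) (Fin 3) F) = ω • 1 := by
  show X ω * Y F * (X ω * X ω) * (Y F * Y F) = _
  have e1 : X ω * (X ω * X ω) = 1 := by rw [← mul_assoc, X_cube hω]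
  have e2 : Y F * (Y F * Y F) = 1 := by rw [← mul_assoc, Y_cube]
  rw [X_Y hω, smul_mul_assoc, smul_mul_assoc, mul_assoc (Y F) (X ω), e1, mul_one, e2]

/-- The standard group of order 27. -/
def stdR : Subgroup (GL (Fin 3) F) := Subgroup.closure {gX hω, gY F}

theorem gX_mem : gX hω ∈ stdR hω := Subgroup.subset_closure (Set.mem_insert _ _)

theorem gY_mem : gY F ∈ stdR hω := Subgroup.subset_closure (Set.mem_insert_of_mem _ rfl)

theorem gZ_mem : gZ hω ∈ stdR hω := by
  unfold gZ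
  exact mul_mem (mul_mem (mul_mem (gX_mem hω) (gY_mem hω)) (inv_mem (gX_mem hω))) (inv_mem (gY_mem hω))

theorem gX_cube : gX hω ^ 3 = 1 := Units.ext (by rw [Units.val_pow_eq_pow_val]; exact X_pow_three hω)

theorem gY_cube : gY F ^ 3 = 1 := Units.ext (by rw [Units.val_pow_eq_pow_val]; exact Y_pow_three)

theorem gA_four : gA hω ^ 4 = 1 := Units.ext (by
  rw [Units.val_pow_eq_pow_val, coe_gA, show 4 = 2 + 2 from rfl, pow_add, pow_two]; exact invol_sq hω)

theorem gB_four : gB hω ^ 4 = 1 := Units.ext (by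
  rw [Units.val_pow_eq_pow_val, coe_gB, show 4 = 2 + 2 from rfl, pow_add, pow_two, B_sq hω, ← A_sq hω]
  exact invol_sq hω)

theorem gX_mem_SL : gX hω ∈ Cfsg.Geo.specialLinear (Fin 3) F :=
  MonoidHom.mem_ker.2 (Units.ext (by rw [Matrix.GeneralLinearGroup.val_det_apply]; exact det_X hω))

theorem gY_mem_SL : gY F ∈ Cfsg.Geo.specialLinear (Fin 3) F :=
  MonoidHom.mem_ker.2 (Units.ext (by rw [Matrix.GeneralLinearGroup.val_det_apply]; exact det_Y))

theorem gA_mem_SL : gA hω ∈ Cfsg.Geo.specialLinear (Fin 3) F :=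
  MonoidHom.mem_ker.2 (Units.ext (by rw [Matrix.GeneralLinearGroup.val_det_apply]; exact det_A hω))

theorem gB_mem_SL : gB hω ∈ Cfsg.Geo.specialLinear (Fin 3) F :=
  MonoidHom.mem_ker.2 (Units.ext (by rw [Matrix.GeneralLinearGroup.val_det_apply]; exact det_B hω))

/-- A monomial of determinant one and a root of unity in front of it lies in the standard group. -/
theorem mem_stdR {g : GL (Fin 3) F} (hd : (g : Matrix (Fin 3) (Fin 3) F).det = 1) {k : F} {a b : ℕ}
    (h : (g : Matrix (Fin 3) (Fin 3) F) = k • (X ω ^ a * Y F ^ b)) : g ∈ stdR hω := by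
  have hk : k ^ 3 = 1 := by
    rw [h, Matrix.det_smul, Matrix.det_mul, Matrix.det_pow, Matrix.det_pow, det_X hω, det_Y, Fintype.card_fin,
      one_pow, one_pow, mul_one, mul_one] at hd
    exact hd
  obtain ⟨n, -, hn⟩ := hω.eq_pow_of_pow_eq_one hk
  have e : g = gZ hω ^ n * (gX hω ^ a * gY F ^ b) := Units.ext (by
    simp only [Units.val_mul, Units.val_pow_eq_pow_val, coe_gZ, coe_gX, coe_gY, smul_pow, one_pow, smul_mul_assoc,
      one_mul, hn, h])
  rw [e]
  exact mul_mem (pow_mem (gZ_mem hω) _) (mul_mem (pow_mem (gX_mem hω) _) (pow_mem (gY_mem hω) _))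

/-- Transvections, and more generally the non-trivial elements with quadratic minimal polynomial `(t - 1) ^ 2`. -/
def NoTv (H : Subgroup (GL (Fin 3) F)) : Prop :=
  ∀ g ∈ H, ((g : Matrix (Fin 3) (Fin 3) F) - 1) ^ 2 = 0 → g = 1

/-- A subgroup of `SL 3` containing the standard generators and the quaternion group, with no transvection. -/
structure Setup (H : Subgroup (GL (Fin 3) F)) (p : ℕ) : Prop where
  prime : p.Prime
  five : 5 < p
  charP : CharP F p
  sl : H ≤ Cfsg.Geo.specialLinear (Fin 3) F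
  mX : gX hω ∈ H
  mY : gY F ∈ H
  mA : gA hω ∈ H
  mB : gB hω ∈ H
  noTv : NoTv H
  sq : ¬ p ^ 2 ∣ Nat.card H

end Cfsg.Agent.MaxCl.SLThree.C6
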