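import Cfsg.Agent.Lib.MaxCl.SLThree.C6.Lifted

/-!
# The quaternion group is a Sylow two-subgroup
-/

set_option autoImplicit false
set_option linter.style.haveILetI false
set_option linter.unusedSectionVars false

namespace Cfsg.Agent.MaxCl.SLThree.C6

open Matrix

universe u

variable {F : Type u} [Field F] [Finite F] {ω : F} {hω : IsPrimitiveRoot ω 3} {H : Subgroup (GL (Fin 3) F)}
  {p : ℕ} (h : Setup hω H p)
include h

/-- The quaternion group inside `H`. -/
def Setup.Q : Subgroup H :=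
  have _ := h.prime
  Subgroup.closure {h.a, h.b}

theorem Setup.pow_four {q : H} (hq : q ∈ h.Q) : q ^ 4 = 1 := by
  by_cases h2 : q ^ 2 = 1
  · rw [show 4 = 2 * 2 from rfl, pow_mul, h2, one_pow]
  have h4 := h.quat.four
  have hb4 := h.quat.bfour
  have hab : (h.a * h.b) ^ 4 = 1 := by
    rw [show 4 = 2 * 2 from rfl, pow_mul, pow_two (h.a * h.b), ← mul_assoc, h.quat.conj, ← pow_two, h.quat.sq,
      ← pow_mul]
    exact h4
  have t : ∀ w : H, w ^ 4 = 1 → (w ^ 3) ^ 4 = 1 := fun w hw => by rw [← pow_mul, pow_mul', hw, one_pow]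
  rcases h.quat.axis hq h2 with (e | e) | (e | e) | (e | e) <;> rw [e]
  exacts [h4, t _ h4, hb4, t _ hb4, hab, t _ hab]

/-- An element of two-power order normalising the quaternion group belongs to it. -/
theorem Setup.two_elem {g : H} {k : ℕ} (hg : g ^ 2 ^ k = 1) (hga : g * h.a * g⁻¹ ∈ h.Q)
    (hgb : g * h.b * g⁻¹ ∈ h.Q) : g ∈ h.Q := by
  obtain ⟨L, _, _, _, ζ, hζ, ρ, hinj, ex, ey, ea, eb⟩ := h.exists_rep
  obtain ⟨q, hq, P, Q, hP, hQ, hc⟩ := h.quat.cases_of_normal hg hga hgb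
  obtain ⟨g', hg'⟩ : ∃ g', g' = g * q := ⟨_, rfl⟩
  rw [← hg'] at hP hQ
  obtain ⟨n, hn, hgn⟩ : ∃ n : ℕ, 0 < n ∧ g' ^ n = 1 := ⟨_, orderOf_pos g', pow_orderOf_eq_one g'⟩
  obtain ⟨G, hG⟩ : ∃ G, G = ρ g' := ⟨_, rfl⟩
  have hGn : G ^ n = 1 := by rw [hG, ← map_pow, hgn, map_one]
  have rel : ∀ T U : H, g' * T * g'⁻¹ = U → G * ρ T = ρ U * G := fun T U e => by
    rw [hG, ← map_mul, ← map_mul, ← e, inv_mul_cancel_right]
  have hA := rel _ _ hP
  have hB := rel _ _ hQ
  rw [ea] at hA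
  rw [eb] at hB
  have hint : ∀ w : H, IsIntegral ℤ (G * ρ w).trace := fun w => by
    rw [hG, ← map_mul]
    exact isIntegral_trace (orderOf_pos (g' * w)) (by rw [← map_pow, pow_orderOf_eq_one, map_one])
  have hv1 : (![0, 1, -1] : Fin 3 → L) ≠ 0 := fun e => by simpa using congrFun e 1
  have h2 : (2 : L) ≠ 0 := two_ne_zero
  have bad : ∀ t ν : L, IsIntegral ℤ t → ν ^ n = 1 → 2 * t = -ν → False := by
    intro t ν ht hν e
    have hν0 : ν ≠ 0 := fun h0 => by simp [h0, hn.ne'] at hν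
    refine not_isIntegral_half (L := L) ?_
    have hinv : IsIntegral ℤ ν⁻¹ := isIntegral_root hn (by rw [inv_pow, hν, inv_one])
    have : (2 : L)⁻¹ = -(t * ν⁻¹) := by
      field_simp
      linear_combination e
    rw [this]
    exact (ht.mul hinv).neg
  have hyint : IsIntegral ℤ (G * Y L).trace := ey ▸ hint h.y
  rcases hc with ⟨rfl, rfl⟩ | ⟨rfl, rfl⟩ | ⟨rfl, rfl⟩ | ⟨rfl, rfl⟩
  · -- both generators fixed
    rw [ea] at hA
    rw [eb] at hB
    obtain ⟨hGf, htr⟩ := centralizer_quat hζ hA hB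
    obtain ⟨d, hd⟩ : ∃ d, d = G 1 1 := ⟨_, rfl⟩
    obtain ⟨e, he⟩ : ∃ e, e = G 1 2 := ⟨_, rfl⟩
    rw [← hd, ← he] at hGf
    rw [← he] at htr
    have hν : (d - e) ^ n = 1 := by
      refine eigen_pow hGn hv1 ?_
      rw [hGf]
      funext i
      fin_cases i <;> simp [Matrix.mulVec, dotProduct, Fin.sum_univ_three] <;> ring
    have ha : (d + e) ^ n = 1 := by
      refine eigen_pow hGn (v := ![1, 0, 0]) (fun e0 => by simpa using congrFun e0 0) ?_
      rw [hGf]
      funext i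
      fin_cases i <;> simp [Matrix.mulVec, dotProduct, Fin.sum_univ_three]
    have hν0 : d - e ≠ 0 := fun h0 => by simp [h0, hn.ne'] at hν
    obtain ⟨u, hu⟩ : ∃ u, u = (d + e) / (d - e) := ⟨_, rfl⟩
    have hun : u ^ n = 1 := by rw [hu, div_pow, ha, hν, div_one]
    have hhalf : IsIntegral ℤ ((u - 1) / 2) := by
      have : (u - 1) / 2 = e * (d - e)⁻¹ := by
        rw [hu]; field_simp; ring
      rw [this]
      exact (htr ▸ hyint).mul (isIntegral_root hn (by rw [inv_pow, hν, inv_one]))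
    have hu2 : u ^ 2 = 1 := by
      refine eq_one_of_quarter hn (by rw [← pow_mul, mul_comm, pow_mul, hun, one_pow]) ?_
      rw [show (u ^ 2 - 1) / 4 = (u - 1) / 2 * ((u - 1) / 2 + 1) by field_simp; ring]
      exact hhalf.mul (hhalf.add isIntegral_one)
    obtain ⟨g'', q'', hq'', e'', hs⟩ : ∃ g'' q'' : H, q'' ∈ h.Q ∧ g'' = g * q'' ∧ ∃ c : L, ρ g'' = c • 1 := by
      rcases sq_eq_one_iff.1 hu2 with hu1 | hu1
      · have he0 : e = 0 := by
          have : d + e = d - e := by rw [hu, div_eq_one_iff_eq hν0] at hu1; exact hu1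
          refine (mul_eq_zero.1 (?_ : (2 : L) * e = 0)).resolve_left h2
          linear_combination this
        refine ⟨g', q, hq, hg', d, ?_⟩
        rw [← hG, hGf, he0]
        ext i j
        fin_cases i <;> fin_cases j <;> simp
      · have hd0 : d = 0 := by
          have : d + e = -(d - e) := by
            rw [hu, div_eq_iff hν0] at hu1; linear_combination hu1
          refine (mul_eq_zero.1 (?_ : (2 : L) * d = 0)).resolve_left h2
          linear_combination this
        refine ⟨g' * (h.a * h.a), q * (h.a * h.a), mul_mem hq (mul_mem ?_ ?_), by rw [hg', mul_assoc], -e, ?_⟩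
        · exact Subgroup.subset_closure (Set.mem_insert _ _)
        · exact Subgroup.subset_closure (Set.mem_insert _ _)
        rw [map_mul, map_mul, ← hG, ea, A_sq hζ, hGf, hd0]
        ext i j
        fin_cases i <;> fin_cases j <;> simp [Matrix.mul_apply, Fin.sum_univ_three]
    obtain ⟨c, hc⟩ := hs
    have hcen : ∀ w : H, g'' * w = w * g'' := fun w => hinj (by
      rw [map_mul, map_mul, hc, smul_mul_assoc, mul_smul_comm, one_mul, mul_one])
    have e3 : g'' ^ 3 = 1 := by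
      have c1 := congrArg (fun w : H => ((w : GL (Fin 3) F) : Matrix (Fin 3) (Fin 3) F)) (hcen h.x)
      have c2 := congrArg (fun w : H => ((w : GL (Fin 3) F) : Matrix (Fin 3) (Fin 3) F)) (hcen h.y)
      simp [Setup.x, Setup.y] at c1 c2
      obtain ⟨s, hs⟩ : ∃ s : F, ((g'' : GL (Fin 3) F) : Matrix (Fin 3) (Fin 3) F) = s • 1 :=
        ⟨_, eq_scalar_of_comm hω c1.symm c2.symm⟩
      have hd := h.sl_det g''
      rw [hs, Matrix.det_smul, Matrix.det_one, mul_one, Fintype.card_fin] at hd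
      refine Subtype.ext (Units.ext ?_)
      simp [hs, smul_pow, hd]
    have e4 : g'' ^ (2 ^ k * 4) = 1 := by
      have eg : g = g'' * q''⁻¹ := by rw [e'', mul_inv_cancel_right]
      have := congrArg (· ^ 4) hg
      simp only [← pow_mul, one_pow] at this
      rw [eg, (Commute.mul_pow (show Commute g'' q''⁻¹ from hcen _)), inv_pow, mul_comm (2 ^ k) 4,
        pow_mul q'', h.pow_four hq'', one_pow, inv_one, mul_one] at this
      rw [mul_comm]; exact this
    have h1 : g'' = 1 := by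
      have := pow_gcd_eq_one.2 ⟨e3, e4⟩
      rwa [(Nat.Coprime.mul_right (Nat.Coprime.pow_right k (by norm_num)) (by norm_num) :
        (3 : ℕ).Coprime (2 ^ k * 4)).gcd_eq_one, pow_one] at this
    rw [h1] at e''
    rw [show g = q''⁻¹ from eq_inv_of_mul_eq_one_left e''.symm]
    exact inv_mem hq''
  · rw [eb] at hA
    rw [ea] at hB
    obtain ⟨hv, htr⟩ := swap_AB hζ h2 hA hB
    exact (bad _ _ hyint (eigen_pow hGn hv1 hv) htr).elim
  · rw [map_mul, ea, eb] at hA
    rw [map_pow, eb, pow_three, ← mul_assoc] at hB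
    obtain ⟨hv, htr⟩ := swap_AC hζ h2 hA hB
    exact (bad _ _ hyint (eigen_pow hGn hv1 hv) htr).elim
  · rw [map_pow, ea, pow_three, ← mul_assoc] at hA
    rw [map_mul, ea, eb] at hB
    obtain ⟨hv, htr⟩ := swap_BC hζ h2 hA hB
    have hxy : IsIntegral ℤ (G * (X ζ * Y L)).trace := by
      have := hint (h.x * h.y)
      rwa [map_mul, ex, ey] at this
    refine (bad (ζ * (G * (X ζ * Y L)).trace) (G 1 1 - G 1 2) ?_ (eigen_pow hGn hv1 hv) ?_).elim
    · exact (isIntegral_root (n := 3) (by norm_num) hζ.pow_eq_one).mul hxy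
    · linear_combination ζ * htr + (-(G 1 1 - G 1 2)) * hζ.pow_eq_one

/-- The quaternion group is a Sylow two-subgroup. -/
theorem Setup.exists_sylow : ∃ S : Sylow 2 H, (S : Subgroup H) = h.Q := by
  haveI : Fact (Nat.Prime 2) := ⟨Nat.prime_two⟩
  have hQ2 : IsPGroup 2 h.Q := fun q => ⟨2, Subtype.ext (by
    rw [SubgroupClass.coe_pow]; exact h.pow_four q.2)⟩
  obtain ⟨S, hS⟩ := hQ2.exists_le_sylow
  refine ⟨S, le_antisymm ?_ hS⟩
  by_contra hne
  have hlt : h.Q.subgroupOf (S : Subgroup H) < ⊤ := lt_top_iff_ne_top.2 fun e => hne (Subgroup.subgroupOf_eq_top.1 e)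
  haveI : Group.IsNilpotent (S : Subgroup H) := S.isPGroup'.isNilpotent
  obtain ⟨g, hgN, hgQ⟩ := SetLike.exists_of_lt (Group.normalizerCondition_of_isNilpotent _ hlt)
  obtain ⟨k, hk⟩ := S.isPGroup' g
  have hmem : ∀ q : H, q ∈ h.Q → (g : H) * q * (g : H)⁻¹ ∈ h.Q := fun q hq =>
    (Subgroup.mem_normalizer_iff.1 hgN ⟨q, hS hq⟩).1 hq
  refine hgQ (h.two_elem (k := k) ?_ (hmem _ ?_) (hmem _ ?_))
  · exact congrArg Subtype.val hk
  · exact Subgroup.subset_closure (Set.mem_insert _ _)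
  · exact Subgroup.subset_closure (Set.mem_insert_of_mem _ rfl)

end Cfsg.Agent.MaxCl.SLThree.C6
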