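import Mathlib

/-!
# The standard extraspecial group of order 27 in dimension three

`X`, `Y` generate it modulo scalars; `A`, `B` generate a quaternion group normalising it, with central
involution `A * A` inverting it modulo scalars.
-/

set_option autoImplicit false
set_option linter.unusedSectionVars false

namespace Cfsg.Agent.MaxCl.SLThree.C6

open Matrix

variable {K : Type*} [Field K]

/-- The diagonal generator. -/
def X (ω : K) : Matrix (Fin 3) (Fin 3) K := !![1, 0, 0; 0, ω, 0; 0, 0, ω ^ 2]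

/-- The cyclic generator. -/
def Y (K : Type*) [Field K] : Matrix (Fin 3) (Fin 3) K := !![0, 0, 1; 1, 0, 0; 0, 1, 0]

/-- The Fourier matrix of determinant one. -/
def A (ω : K) : Matrix (Fin 3) (Fin 3) K :=
  (ω - ω ^ 2)⁻¹ • !![1, 1, 1; 1, ω, ω ^ 2; 1, ω ^ 2, ω]

/-- The conjugate of `A` by `diag(1, ω, ω)`. -/
def B (ω : K) : Matrix (Fin 3) (Fin 3) K :=
  (ω - ω ^ 2)⁻¹ • !![1, ω ^ 2, ω ^ 2; ω, ω, ω ^ 2; ω, ω ^ 2, ω]

variable {ω : K}

theorem sum_eq_zero (hω : IsPrimitiveRoot ω 3) : 1 + ω + ω ^ 2 = 0 := by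
  have h := hω.geom_sum_eq_zero (by norm_num)
  simpa [Finset.sum_range_succ] using h

theorem three_ne_zero' (hω : IsPrimitiveRoot ω 3) : (3 : K) ≠ 0 := by
  have := hω.neZero'.ne
  exact_mod_cast this

theorem sub_sq_ne (hω : IsPrimitiveRoot ω 3) : ω - ω ^ 2 ≠ 0 := by
  intro h
  have h0 : ω * (1 - ω) = 0 := by linear_combination h
  rcases mul_eq_zero.1 h0 with h1 | h1
  · exact hω.ne_zero (by norm_num) h1
  · exact hω.ne_one (by norm_num) (by linear_combination -h1)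

theorem cube (hω : IsPrimitiveRoot ω 3) : ω ^ 3 = 1 := hω.pow_eq_one

variable (hω : IsPrimitiveRoot ω 3)
include hω

theorem X_cube : X ω * X ω * X ω = 1 := by
  have := cube hω
  ext i j
  fin_cases i <;> fin_cases j <;> simp [X, Matrix.mul_apply, Fin.sum_univ_three] <;> grind

omit hω in
theorem Y_cube : Y K * Y K * Y K = 1 := by
  ext i j
  fin_cases i <;> fin_cases j <;> simp [Y, Matrix.mul_apply, Fin.sum_univ_three]

theorem X_Y : X ω * Y K = ω • (Y K * X ω) := by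
  have := cube hω
  ext i j
  fin_cases i <;> fin_cases j <;> simp [X, Y, Matrix.mul_apply, Fin.sum_univ_three] <;> grind

theorem det_X : (X ω).det = 1 := by
  have := cube hω
  simp [X, Matrix.det_fin_three]
  grind

omit hω in
theorem det_Y : (Y K).det = 1 := by simp [Y, Matrix.det_fin_three]

theorem det_A : (A ω).det = 1 := by
  have h1 := sum_eq_zero hω
  have h2 := sub_sq_ne hω
  simp [A, Matrix.det_fin_three]
  field_simp
  grind

theorem det_B : (B ω).det = 1 := by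
  have h1 := sum_eq_zero hω
  have h2 := sub_sq_ne hω
  simp [B, Matrix.det_fin_three]
  field_simp
  grind

/-- The central involution is minus the transposition of the last two coordinates. -/
theorem A_sq : A ω * A ω = !![-1, 0, 0; 0, 0, -1; 0, -1, 0] := by
  have h1 := sum_eq_zero hω
  have h2 := sub_sq_ne hω
  ext i j
  fin_cases i <;> fin_cases j <;> simp [A, Matrix.mul_apply, Fin.sum_univ_three] <;> field_simp <;> grind

theorem B_sq : B ω * B ω = !![-1, 0, 0; 0, 0, -1; 0, -1, 0] := by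
  have h1 := sum_eq_zero hω
  have h2 := sub_sq_ne hω
  ext i j
  fin_cases i <;> fin_cases j <;> simp [B, Matrix.mul_apply, Fin.sum_univ_three] <;> field_simp <;> grind

theorem invol_sq : (A ω * A ω) * (A ω * A ω) = 1 := by
  rw [A_sq hω]
  ext i j
  fin_cases i <;> fin_cases j <;> simp [Matrix.mul_apply, Fin.sum_univ_three]

theorem A_B : A ω * B ω * A ω = B ω := by
  have h1 := sum_eq_zero hω
  have h2 := sub_sq_ne hω
  ext i j
  fin_cases i <;> fin_cases j <;> simp [A, B, Matrix.mul_apply, Fin.sum_univ_three] <;> field_simp <;> grind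

theorem B_A : B ω * A ω * B ω = A ω := by
  have h1 := sum_eq_zero hω
  have h2 := sub_sq_ne hω
  ext i j
  fin_cases i <;> fin_cases j <;> simp [A, B, Matrix.mul_apply, Fin.sum_univ_three] <;> field_simp <;> grind

theorem A_X : A ω * X ω = Y K * Y K * A ω := by
  have h1 := sum_eq_zero hω
  ext i j
  fin_cases i <;> fin_cases j <;> simp [A, X, Y, Matrix.mul_apply, Fin.sum_univ_three] <;> grind

theorem A_Y : A ω * Y K = X ω * A ω := by
  have h1 := sum_eq_zero hω
  ext i j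
  fin_cases i <;> fin_cases j <;> simp [A, X, Y, Matrix.mul_apply, Fin.sum_univ_three] <;> grind

theorem B_X : B ω * X ω = ω ^ 2 • (X ω * (Y K * Y K) * B ω) := by
  have h1 := sum_eq_zero hω
  ext i j
  fin_cases i <;> fin_cases j <;> simp [B, X, Y, Matrix.mul_apply, Fin.sum_univ_three] <;> grind

theorem B_Y : B ω * Y K = ω • (X ω * X ω * (Y K * Y K) * B ω) := by
  have h1 := sum_eq_zero hω
  ext i j
  fin_cases i <;> fin_cases j <;> simp [B, X, Y, Matrix.mul_apply, Fin.sum_univ_three] <;> grind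

theorem YY_XX : Y K * Y K * (X ω * X ω) = ω ^ 2 • (X ω * X ω * (Y K * Y K)) := by
  have h1 := sum_eq_zero hω
  ext i j
  fin_cases i <;> fin_cases j <;> simp [X, Y, Matrix.mul_apply, Fin.sum_univ_three] <;> grind

theorem B_XYY : B ω * (X ω * (Y K * Y K)) = ω • (X ω * X ω * B ω) := by
  have h1 := sum_eq_zero hω
  ext i j
  fin_cases i <;> fin_cases j <;> simp [B, X, Y, Matrix.mul_apply, Fin.sum_univ_three] <;> grind

theorem B_XXY : B ω * (X ω * X ω * Y K) = ω • (X ω * B ω) := by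
  have h1 := sum_eq_zero hω
  ext i j
  fin_cases i <;> fin_cases j <;> simp [B, X, Y, Matrix.mul_apply, Fin.sum_univ_three] <;> grind

theorem B_XXYY : B ω * (X ω * X ω * (Y K * Y K)) = ω ^ 2 • (Y K * Y K * B ω) := by
  have h1 := sum_eq_zero hω
  ext i j
  fin_cases i <;> fin_cases j <;> simp [B, X, Y, Matrix.mul_apply, Fin.sum_univ_three] <;> grind

theorem B_XY : B ω * (X ω * Y K) = ω ^ 2 • (Y K * B ω) := by
  have h1 := sum_eq_zero hω
  ext i j
  fin_cases i <;> fin_cases j <;> simp [B, X, Y, Matrix.mul_apply, Fin.sum_univ_three] <;> grind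

theorem A_four : A ω * (A ω * A ω * A ω) = 1 := by
  have h := invol_sq hω
  rw [← mul_assoc] at h
  rw [← mul_assoc, ← mul_assoc, h]

theorem B_four : B ω * (B ω * B ω * B ω) = 1 := by
  have h := invol_sq hω
  rw [A_sq hω, ← B_sq hω, ← mul_assoc] at h
  rw [← mul_assoc, ← mul_assoc, h]

theorem X_ne : X ω ≠ 0 := fun h => by simpa [h] using det_X hω

/-- Only scalars commute with both generators. -/
theorem eq_scalar_of_comm {M : Matrix (Fin 3) (Fin 3) K} (h1 : X ω * M = M * X ω) (h2 : Y K * M = M * Y K) :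
    M = M 0 0 • 1 := by
  have h3 := cube hω
  have hd : ∀ i j : Fin 3, i ≠ j → ω ^ (i : ℕ) - ω ^ (j : ℕ) ≠ 0 := fun i j hij h =>
    hij (Fin.ext (hω.pow_inj i.isLt j.isLt (sub_eq_zero.1 h)))
  have hoff : ∀ i j : Fin 3, i ≠ j → M i j = 0 := by
    intro i j hij
    refine (mul_eq_zero.1 (?_ : (ω ^ (i : ℕ) - ω ^ (j : ℕ)) * M i j = 0)).resolve_left (hd i j hij)
    have := congrFun (congrFun h1 i) j
    fin_cases i <;> fin_cases j <;> simp [X, Matrix.mul_apply, Fin.sum_univ_three] at this hij ⊢ <;> grind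
  have e1 : M 0 0 = M 1 1 := by simpa [Y, Matrix.mul_apply, Fin.sum_univ_three] using congrFun (congrFun h2 1) 0
  have e2 : M 1 1 = M 2 2 := by simpa [Y, Matrix.mul_apply, Fin.sum_univ_three] using congrFun (congrFun h2 2) 1
  ext i j
  fin_cases i <;> fin_cases j <;> simp [hoff, ← e2, ← e1]

theorem X_Y_pow (b : ℕ) : X ω * Y K ^ b = ω ^ b • (Y K ^ b * X ω) := by
  induction b with
  | zero => simp
  | succ b ih =>
    rw [pow_succ, ← mul_assoc, ih, smul_mul_assoc, mul_assoc, X_Y hω, mul_smul_comm, smul_smul, ← mul_assoc,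
      ← pow_succ]

theorem Y_X : Y K * X ω = ω ^ 2 • (X ω * Y K) := by
  rw [X_Y hω, smul_smul, show ω ^ 2 * ω = ω ^ 3 by ring, cube hω, one_smul]

theorem Y_X_pow (a : ℕ) : Y K * X ω ^ a = ω ^ (2 * a) • (X ω ^ a * Y K) := by
  induction a with
  | zero => simp
  | succ a ih =>
    rw [pow_succ, ← mul_assoc, ih, smul_mul_assoc, mul_assoc, Y_X hω, mul_smul_comm, smul_smul, ← mul_assoc,
      show 2 * (a + 1) = 2 * a + 2 by ring, pow_add]

theorem X_pow_three : X ω ^ 3 = 1 := by rw [pow_three, ← mul_assoc, X_cube hω]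

omit hω in
theorem Y_pow_three : Y K ^ 3 = 1 := by rw [pow_three, ← mul_assoc, Y_cube]

theorem scalar_cube {T M : Matrix (Fin 3) (Fin 3) K} (hT : T ^ 3 = 1) (h0 : M ≠ 0) {c : K}
    (h : T * M = c • (M * T)) : ∃ m : ℕ, c = ω ^ m := by
  have hk : ∀ k : ℕ, T ^ k * M = c ^ k • (M * T ^ k) := by
    intro k
    induction k with
    | zero => simp
    | succ k ih =>
      rw [pow_succ, mul_assoc, h, mul_smul_comm, ← mul_assoc, ih, smul_mul_assoc, smul_smul, mul_assoc, ← pow_succ']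
  have e : M = c ^ 3 • M := by simpa [hT] using hk 3
  obtain ⟨m, -, hm⟩ := hω.eq_pow_of_pow_eq_one
    (smul_left_injective K h0 (show c ^ 3 • M = (1 : K) • M by rw [one_smul, ← e]))
  exact ⟨m, hm.symm⟩

/-- A matrix commuting with the generators up to scalars is a monomial in them. -/
theorem monomial_of_comm {M : Matrix (Fin 3) (Fin 3) K} (h0 : M ≠ 0) {c₁ c₂ : K}
    (h1 : X ω * M = c₁ • (M * X ω)) (h2 : Y K * M = c₂ • (M * Y K)) :
    ∃ (a b : Fin 3) (k : K), k ≠ 0 ∧ M = k • (X ω ^ (a : ℕ) * Y K ^ (b : ℕ)) := by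
  obtain ⟨m, rfl⟩ := scalar_cube hω (X_pow_three hω) h0 h1
  obtain ⟨n, rfl⟩ := scalar_cube hω Y_pow_three h0 h2
  have hω0 : ω ≠ 0 := hω.ne_zero (by norm_num)
  obtain ⟨N, hN⟩ : ∃ N, N = M * (X ω ^ n * Y K ^ (2 * m)) := ⟨_, rfl⟩
  have c1 : X ω * N = N * X ω := by
    calc X ω * N = ω ^ m • (M * X ω ^ n * (X ω * Y K ^ (2 * m))) := by
          rw [hN, ← mul_assoc, h1, smul_mul_assoc]
          congr 1
          rw [mul_assoc, mul_assoc, ← mul_assoc (X ω), ← pow_succ', pow_succ, mul_assoc]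
      _ = ω ^ (m + 2 * m) • (N * X ω) := by
          rw [X_Y_pow hω, mul_smul_comm, smul_smul, ← pow_add, hN]
          simp only [mul_assoc]
      _ = N * X ω := by rw [show m + 2 * m = 3 * m by ring, pow_mul, cube hω, one_pow, one_smul]
  have c2 : Y K * N = N * Y K := by
    calc Y K * N = ω ^ n • (M * (Y K * X ω ^ n) * Y K ^ (2 * m)) := by
          rw [hN, ← mul_assoc, h2, smul_mul_assoc]
          simp only [mul_assoc]
      _ = ω ^ (n + 2 * n) • (N * Y K) := by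
          rw [Y_X_pow hω, mul_smul_comm, smul_mul_assoc, smul_smul, ← pow_add, hN]
          simp only [mul_assoc, ← pow_succ, ← pow_succ']
      _ = N * Y K := by rw [show n + 2 * n = 3 * n by ring, pow_mul, cube hω, one_pow, one_smul]
  have hs := eq_scalar_of_comm hω c1 c2
  obtain ⟨k, hk⟩ : ∃ k : K, N = k • 1 := ⟨_, hs⟩
  have e1 : M = k • (Y K ^ m * X ω ^ (2 * n)) := by
    have := congrArg (· * (Y K ^ m * X ω ^ (2 * n))) hk
    simp only [smul_mul_assoc, one_mul] at this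
    rw [← this, hN, mul_assoc, mul_assoc (X ω ^ n), ← mul_assoc (Y K ^ (2 * m)), ← pow_add,
      show 2 * m + m = 3 * m by ring, pow_mul, Y_pow_three, one_pow, one_mul, ← pow_add,
      show n + 2 * n = 3 * n by ring, pow_mul, X_pow_three hω, one_pow, mul_one]
  have e2 : ∀ a b : ℕ, ∃ c : K, c ≠ 0 ∧ Y K ^ b * X ω ^ a = c • (X ω ^ a * Y K ^ b) := by
    intro a b
    induction b with
    | zero => exact ⟨1, one_ne_zero, by simp⟩
    | succ b ih =>
      obtain ⟨c, hc, e⟩ := ih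
      refine ⟨c * ω ^ (2 * a), mul_ne_zero hc (pow_ne_zero _ hω0), ?_⟩
      rw [pow_succ', mul_assoc, e, mul_smul_comm, ← mul_assoc, Y_X_pow hω, smul_mul_assoc, smul_smul, mul_assoc]
  obtain ⟨c, hc, e⟩ := e2 (2 * n) m
  refine ⟨⟨2 * n % 3, Nat.mod_lt _ (by norm_num)⟩, ⟨m % 3, Nat.mod_lt _ (by norm_num)⟩, k * c, ?_, ?_⟩
  · refine mul_ne_zero (fun hk0 => h0 ?_) hc
    rw [e1, hk0, zero_smul]
  · rw [e1, e, smul_smul, ← pow_eq_pow_mod _ (X_pow_three hω), ← pow_eq_pow_mod _ Y_pow_three]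

variable {W : Submodule K (Matrix (Fin 3) (Fin 3) K)}

/-- An invariant subspace contains an eigenvector for each of two commuting cube roots of the identity. -/
theorem exists_eigen (f : Module.End K (Matrix (Fin 3) (Fin 3) K)) (hf : ∀ M, f (f (f M)) = M)
    (hW : ∀ M ∈ W, f M ∈ W) {M : Matrix (Fin 3) (Fin 3) K} (hM : M ∈ W) (h0 : M ≠ 0) :
    ∃ (c : K) (N : Matrix (Fin 3) (Fin 3) K), N ∈ W ∧ N ≠ 0 ∧ f N = c • N := by
  have h3 := cube hω
  have key : ∀ k : ℕ, f (M + ω ^ k • f M + ω ^ (2 * k) • f (f M)) =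
      ω ^ (2 * k) • (M + ω ^ k • f M + ω ^ (2 * k) • f (f M)) := by
    intro k
    have e1 : ω ^ (2 * k) * ω ^ k = 1 := by
      rw [← pow_add, show 2 * k + k = 3 * k by ring, pow_mul, h3, one_pow]
    have e2 : ω ^ (2 * k) * ω ^ (2 * k) = ω ^ k := by
      rw [← pow_add, show 2 * k + 2 * k = k + 3 * k by ring, pow_add, pow_mul, h3, one_pow, mul_one]
    simp only [map_add, map_smul, hf, smul_add, smul_smul, e1, e2]
    module
  have hmem : ∀ k : ℕ, M + ω ^ k • f M + ω ^ (2 * k) • f (f M) ∈ W := fun k =>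
    add_mem (add_mem hM (Submodule.smul_mem _ _ (hW M hM))) (Submodule.smul_mem _ _ (hW _ (hW M hM)))
  by_contra hno
  push Not at hno
  have hz : ∀ k : ℕ, M + ω ^ k • f M + ω ^ (2 * k) • f (f M) = 0 := fun k => by
    by_contra h
    exact hno _ _ (hmem k) h (key k)
  have hsum : (3 : K) • M = 0 := by
    have := congrArg₂ (· + ·) (congrArg₂ (· + ·) (hz 0) (hz 1)) (hz 2)
    have hs := sum_eq_zero hω
    simp only [add_zero] at this
    rw [← this]
    match_scalars <;> grind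
  exact h0 ((smul_eq_zero.1 hsum).resolve_left (three_ne_zero' hω))

/-- An invariant subspace with a non-zero matrix of trace zero contains both generators and their squares. -/
theorem gens_mem (hX : ∀ M ∈ W, X ω * M * (X ω * X ω) ∈ W) (hY : ∀ M ∈ W, Y K * M * (Y K * Y K) ∈ W)
    (hA : ∀ M ∈ W, A ω * M * (A ω * A ω * A ω) ∈ W) (hB : ∀ M ∈ W, B ω * M * (B ω * B ω * B ω) ∈ W)
    {M : Matrix (Fin 3) (Fin 3) K} (hM : M ∈ W) (h0 : M ≠ 0) (htr : M.trace = 0) :
    X ω ∈ W ∧ X ω * X ω ∈ W ∧ Y K ∈ W ∧ Y K * Y K ∈ W := by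
  have h3 := cube hω
  have hω0 : ω ≠ 0 := hω.ne_zero (by norm_num)
  have hX3 := X_cube hω
  have hY3 : Y K * Y K * Y K = 1 := Y_cube
  have hX3' : X ω * (X ω * X ω) = 1 := by rw [← mul_assoc, hX3]
  have hY3' : Y K * (Y K * Y K) = 1 := by rw [← mul_assoc, hY3]
  let fX : Module.End K (Matrix (Fin 3) (Fin 3) K) :=
    LinearMap.mulLeft K (X ω) * LinearMap.mulRight K (X ω * X ω)
  let fY : Module.End K (Matrix (Fin 3) (Fin 3) K) :=
    LinearMap.mulLeft K (Y K) * LinearMap.mulRight K (Y K * Y K)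
  have eX : ∀ N, fX N = X ω * N * (X ω * X ω) := fun N => by simp [fX, mul_assoc]
  have eY : ∀ N, fY N = Y K * N * (Y K * Y K) := fun N => by simp [fY, mul_assoc]
  let W₀ := W ⊓ LinearMap.ker (Matrix.traceLinearMap (Fin 3) K K)
  have cube' : ∀ T : Matrix (Fin 3) (Fin 3) K, T * T * T = 1 → ∀ N, T * (T * (T * N * (T * T)) * (T * T)) * (T * T) = N := by
    intro T hT N
    calc T * (T * (T * N * (T * T)) * (T * T)) * (T * T) = (T * T * T) * N * ((T * T * T) * (T * T * T)) := by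
          simp only [mul_assoc]
      _ = N := by rw [hT, one_mul, one_mul, mul_one]
  have htr' : ∀ T N : Matrix (Fin 3) (Fin 3) K, T * T * T = 1 → N.trace = 0 → (T * N * (T * T)).trace = 0 := by
    intro T N hT h
    rw [Matrix.trace_mul_cycle, hT, one_mul, h]
  obtain ⟨c₁, N, hN, hN0, hNe⟩ := exists_eigen hω (W := W₀) fX
    (fun N => by rw [eX, eX, eX]; exact cube' _ hX3 N)
    (fun N hN => ⟨by rw [eX]; exact hX N hN.1, by
      show Matrix.trace (fX N) = 0
      rw [eX]; exact htr' _ _ hX3 hN.2⟩) (M := M) ⟨hM, htr⟩ h0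
  let U : Submodule K (Matrix (Fin 3) (Fin 3) K) := W₀ ⊓ LinearMap.ker (fX - c₁ • 1)
  have hcomm : fX * fY = fY * fX := by
    refine LinearMap.ext fun P => ?_
    simp only [Module.End.mul_apply, eX, eY]
    calc X ω * (Y K * P * (Y K * Y K)) * (X ω * X ω) = X ω * Y K * P * (Y K * Y K * (X ω * X ω)) := by
          simp only [mul_assoc]
      _ = (ω ^ 2 * ω) • (Y K * X ω * P * (X ω * X ω * (Y K * Y K))) := by
          rw [X_Y hω, YY_XX hω]; simp only [smul_mul_assoc, mul_smul_comm, smul_smul]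
      _ = Y K * (X ω * P * (X ω * X ω)) * (Y K * Y K) := by
          rw [show ω ^ 2 * ω = ω ^ 3 by ring, h3, one_smul]
          simp only [mul_assoc]
  have hU : ∀ P ∈ U, fY P ∈ U := by
    rintro P ⟨⟨hP, hPt⟩, hPe⟩
    have hPe' : (fX - c₁ • 1) P = 0 := hPe
    refine ⟨⟨by rw [eY]; exact hY P hP, by
      show Matrix.trace (fY P) = 0
      rw [eY]; exact htr' _ _ hY3 hPt⟩, ?_⟩
    show (fX - c₁ • 1) (fY P) = 0
    rw [LinearMap.sub_apply, sub_eq_zero, LinearMap.smul_apply, Module.End.one_apply] at hPe' ⊢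
    rw [← Module.End.mul_apply, hcomm, Module.End.mul_apply, hPe', map_smul]
  obtain ⟨c₂, P, ⟨⟨hPW, hPt⟩, hPe⟩, hP0, hP2⟩ := exists_eigen hω (W := U) fY
    (fun N => by rw [eY, eY, eY]; exact cube' _ hY3 N) hU (M := N) ⟨hN, by
      show (fX - c₁ • 1) N = 0
      rw [LinearMap.sub_apply, hNe, LinearMap.smul_apply, Module.End.one_apply, sub_self]⟩ hN0
  have hPe' : fX P = c₁ • P := sub_eq_zero.1 (show (fX - c₁ • 1) P = 0 from hPe)
  have q1 : X ω * P = c₁ • (P * X ω) := by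
    rw [← smul_mul_assoc, ← hPe', eX, mul_assoc, hX3, mul_one]
  have q2 : Y K * P = c₂ • (P * Y K) := by
    rw [← smul_mul_assoc, ← hP2, eY, mul_assoc, hY3, mul_one]
  obtain ⟨a, b, k, hk, rfl⟩ := monomial_of_comm hω hP0 q1 q2
  have hab : X ω ^ (a : ℕ) * Y K ^ (b : ℕ) ∈ W := by
    have := Submodule.smul_mem W k⁻¹ hPW
    rwa [smul_smul, inv_mul_cancel₀ hk, one_smul] at this
  have hne : ¬ (a = 0 ∧ b = 0) := by
    rintro ⟨rfl, rfl⟩
    have h' : Matrix.trace (k • (1 : Matrix (Fin 3) (Fin 3) K)) = 0 := by simpa using hPt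
    rw [Matrix.trace_smul, Matrix.trace_one, Fintype.card_fin, smul_eq_mul] at h'
    exact (mul_ne_zero hk (by exact_mod_cast three_ne_zero' hω)) h'
  -- the orbit of the quaternion group
  have hA4 : ∀ T S : Matrix (Fin 3) (Fin 3) K, A ω * T = S * A ω → T ∈ W → S ∈ W := by
    intro T S e hT
    have := hA T hT
    rwa [e, mul_assoc, A_four hω, mul_one] at this
  have hB4 : ∀ (T S : Matrix (Fin 3) (Fin 3) K) (c : K), c ≠ 0 → B ω * T = c • (S * B ω) → T ∈ W → S ∈ W := by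
    intro T S c hc e hT
    have := hB T hT
    rw [e, smul_mul_assoc, mul_assoc, B_four hω, mul_one] at this
    have := Submodule.smul_mem W c⁻¹ this
    rwa [smul_smul, inv_mul_cancel₀ hc, one_smul] at this
  have k1 : X ω ∈ W → Y K * Y K ∈ W := hA4 _ _ (A_X hω)
  have k2 : Y K * Y K ∈ W → X ω * X ω ∈ W := hA4 _ _ (by
    rw [← mul_assoc, A_Y hω, mul_assoc, A_Y hω, ← mul_assoc])
  have k3 : X ω * X ω ∈ W → Y K ∈ W := hA4 _ _ (by
    rw [← mul_assoc, A_X hω, mul_assoc, A_X hω, ← mul_assoc, show Y K * Y K * (Y K * Y K) = Y K * Y K * Y K * Y K by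
      simp only [mul_assoc], hY3, one_mul])
  have k4 : Y K ∈ W → X ω ∈ W := hA4 _ _ (A_Y hω)
  have m1 : X ω ∈ W → X ω * (Y K * Y K) ∈ W := hB4 _ _ _ (pow_ne_zero _ hω0) (B_X hω)
  have m2 : X ω * (Y K * Y K) ∈ W → X ω * X ω ∈ W := hB4 _ _ ω hω0 (B_XYY hω)
  have m3 : X ω * X ω * Y K ∈ W → X ω ∈ W := hB4 _ _ ω hω0 (B_XXY hω)
  have m4 : X ω * X ω * (Y K * Y K) ∈ W → Y K * Y K ∈ W := hB4 _ _ _ (pow_ne_zero _ hω0) (B_XXYY hω)
  have m5 : X ω * Y K ∈ W → Y K ∈ W := hB4 _ _ _ (pow_ne_zero _ hω0) (B_XY hω)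
  have hX' : X ω ∈ W := by
    clear hA4 hB4 hA hB hX hY
    fin_cases a <;> fin_cases b <;> simp [pow_two] at hne hab
    exacts [k4 hab, k4 (k3 (k2 hab)), hab, k4 (m5 hab), k4 (k3 (m2 hab)), k4 (k3 hab), m3 hab,
      k4 (k3 (k2 (m4 hab)))]
  exact ⟨hX', k2 (k1 hX'), k3 (k2 (k1 hX')), k1 hX'⟩

end Cfsg.Agent.MaxCl.SLThree.C6
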